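import Mathlib

/-!
# Arithmetic with `q = p ^ f` modulo `q ^ 2 - 1`
-/

set_option autoImplicit false

namespace Cfsg.Agent.H67.QArith

/-- `p ^ e - 1` does not divide `c (p ^ k + 1)` for small `c`. -/
theorem not_dvd_mul_add {p e c k : ℕ} (hp : 2 ≤ p) (hc : 0 < c) (he : 0 < e) (hb : c * (p ^ (e - 1) + 1) < p ^ e - 1) :
    ¬ p ^ e - 1 ∣ c * (p ^ k + 1) := by
  intro h
  have h1 : p ^ k ≡ p ^ (k % e) [MOD p ^ e - 1] := by
    have h2 : p ^ e ≡ 1 [MOD p ^ e - 1] := by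
      have h3 : 1 ≤ p ^ e := Nat.one_le_pow _ _ (by omega)
      exact ((Nat.modEq_iff_dvd' h3).2 dvd_rfl).symm
    conv_lhs => rw [← Nat.div_add_mod k e, pow_add, pow_mul]
    calc (p ^ e) ^ (k / e) * p ^ (k % e) ≡ 1 ^ (k / e) * p ^ (k % e) [MOD p ^ e - 1] := (h2.pow _).mul_right _
      _ = p ^ (k % e) := by rw [one_pow, one_mul]
  have h2 : c * (p ^ k + 1) ≡ c * (p ^ (k % e) + 1) [MOD p ^ e - 1] := (h1.add_right 1).mul_left c
  have h3 : p ^ e - 1 ∣ c * (p ^ (k % e) + 1) := (h2.dvd_iff dvd_rfl).1 h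
  have h4 : p ^ (k % e) ≤ p ^ (e - 1) := Nat.pow_le_pow_right (by omega) (by have := Nat.mod_lt k he; omega)
  have h5 := Nat.le_of_dvd (Nat.mul_pos hc (by omega)) h3
  have h6 : c * (p ^ (k % e) + 1) ≤ c * (p ^ (e - 1) + 1) := Nat.mul_le_mul_left _ (by omega)
  omega

variable {p f q : ℕ} (hp : p.Prime) (hp2 : p ≠ 2) (hf : 0 < f) (hq : q = p ^ f)

include hp hp2 in
theorem three_le : 3 ≤ p := by
  have := hp.two_le
  omega

include hp hp2 hf hq in
theorem three_le_q : 3 ≤ q := by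
  have h1 := three_le hp hp2
  rw [hq]
  calc 3 ≤ p := h1
    _ = p ^ 1 := (pow_one p).symm
    _ ≤ p ^ f := Nat.pow_le_pow_right (by omega) hf

theorem q2 (h : 1 ≤ q) : q ^ 2 - 1 = (q - 1) * (q + 1) := by
  obtain ⟨r, rfl⟩ : ∃ r, q = r + 1 := ⟨q - 1, by omega⟩
  have : (r + 1) ^ 2 = r * (r + 2) + 1 := by ring
  rw [this]
  simp only [Nat.add_sub_cancel]

theorem dvd_left (h : 1 ≤ q) : q - 1 ∣ q ^ 2 - 1 := by rw [q2 h]; exact Dvd.intro _ rfl

theorem dvd_right (h : 1 ≤ q) : q + 1 ∣ q ^ 2 - 1 := by rw [q2 h]; exact Dvd.intro_left _ rfl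

include hp hf hq in
theorem cop : (q - 1).Coprime p := by
  have h1 : 1 ≤ q := by rw [hq]; exact Nat.one_le_pow _ _ hp.pos
  rw [Nat.coprime_comm, hp.coprime_iff_not_dvd]
  intro h
  have h2 : p ∣ q := by rw [hq]; exact dvd_pow_self p hf.ne'
  have h3 : p ∣ q - (q - 1) := Nat.dvd_sub h2 h
  rw [Nat.sub_sub_self h1] at h3
  exact hp.one_lt.ne' (Nat.dvd_one.1 h3)

include hp hp2 hf hq in
/-- `q - 1` does not divide a power of `p` -/
theorem not_dvd_pow (k : ℕ) : ¬ q - 1 ∣ p ^ k := by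
  intro h
  have h1 := three_le_q hp hp2 hf hq
  have h2 := Nat.Coprime.eq_one_of_dvd ((cop hp hf hq).pow_right k) h
  omega

include hp hp2 hf hq in
theorem a1 (k : ℕ) : ¬ q ^ 2 - 1 ∣ p ^ k + 1 := by
  have h1 := three_le hp hp2
  have h2 : q ^ 2 = p ^ (2 * f) := by rw [hq, ← pow_mul, mul_comm]
  have h3 : p ^ (2 * f) = p ^ (2 * f - 1) * p := by rw [← pow_succ]; congr 1; omega
  have h4 : 3 ≤ p ^ (2 * f - 1) := by
    calc 3 ≤ p := h1
      _ = p ^ 1 := (pow_one p).symm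
      _ ≤ p ^ (2 * f - 1) := Nat.pow_le_pow_right (by omega) (by omega)
  have h5 : p ^ (2 * f - 1) * 3 ≤ p ^ (2 * f - 1) * p := Nat.mul_le_mul_left _ h1
  have := not_dvd_mul_add (p := p) (e := 2 * f) (c := 1) (k := k) (by omega) one_pos (by omega) (by omega)
  rw [one_mul] at this
  rwa [h2]

include hp hp2 hf hq in
theorem a2 (k : ℕ) : ¬ q ^ 2 - 1 ∣ (q - 1) * p ^ k + 1 := by
  intro h
  have h1 := three_le_q hp hp2 hf hq
  have h2 := (dvd_left (by omega)).trans h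
  have h3 := (Nat.dvd_add_right (Dvd.intro _ rfl)).1 h2
  have := Nat.dvd_one.1 h3
  omega

include hp hp2 hf hq in
theorem a3 (k : ℕ) : ¬ (q - 1) * p ^ k ≡ 1 [MOD q ^ 2 - 1] := by
  intro h
  have h1 := three_le_q hp hp2 hf hq
  have h2 := h.of_dvd (dvd_left (by omega))
  have h3 : (q - 1) * p ^ k ≡ 0 [MOD q - 1] := (Nat.modEq_zero_iff_dvd).2 (Dvd.intro _ rfl)
  have h4 := (h2.symm.trans h3)
  have h5 := (Nat.modEq_zero_iff_dvd).1 h4
  have := Nat.dvd_one.1 h5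
  omega

include hp hp2 hf hq in
theorem a4 (k : ℕ) : ¬ q ^ 2 - 1 ∣ p ^ k + (q - 1) := by
  intro h
  have h1 := three_le_q hp hp2 hf hq
  have h2 := (dvd_left (by omega)).trans h
  exact not_dvd_pow hp hp2 hf hq k ((Nat.dvd_add_left dvd_rfl).1 h2)

include hp hp2 hf hq in
theorem a5 (k : ℕ) : ¬ q ^ 2 - 1 ∣ (q + 1) * p ^ k + (q - 1) := by
  intro h
  have h1 := three_le_q hp hp2 hf hq
  have h2 := (dvd_right (by omega)).trans h
  have h3 := (Nat.dvd_add_right (Dvd.intro _ rfl)).1 h2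
  have := Nat.le_of_dvd (by omega) h3
  omega

include hp hp2 hf hq in
theorem a6 (k : ℕ) : ¬ q ^ 2 - 1 ∣ (q + 1) * p ^ k + (2 * q - 1) := by
  intro h
  have h1 := three_le_q hp hp2 hf hq
  have h2 := (dvd_right (by omega)).trans h
  have h3 := (Nat.dvd_add_right (Dvd.intro _ rfl)).1 h2
  have h4 : q + 1 ∣ 2 * (q + 1) - (2 * q - 1) := Nat.dvd_sub (Dvd.intro_left _ rfl) h3
  have h5 : 2 * (q + 1) - (2 * q - 1) = 3 := by omega
  rw [h5] at h4
  have := Nat.le_of_dvd (by omega) h4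
  omega

include hp hp2 hf hq in
theorem a7 (k : ℕ) : ¬ q ^ 2 - 1 ∣ (2 * q - 1) * p ^ k + (q - 1) := by
  intro h
  have h1 := three_le_q hp hp2 hf hq
  have h2 := (Nat.dvd_add_left dvd_rfl).1 ((dvd_left (by omega)).trans h)
  have h3 : (2 * q - 1) * p ^ k = (q - 1) * (2 * p ^ k) + p ^ k := by
    have : 2 * q - 1 = 2 * (q - 1) + 1 := by omega
    rw [this]; ring
  rw [h3] at h2
  exact not_dvd_pow hp hp2 hf hq k ((Nat.dvd_add_right (Dvd.intro _ rfl)).1 h2)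

include hp hp2 hf hq in
theorem a8 (k : ℕ) : ¬ q ^ 2 - 1 ∣ (2 * q - 1) * p ^ k + (2 * q - 1) := by
  intro h
  have h1 := three_le_q hp hp2 hf hq
  have h0 := three_le hp hp2
  have e0 : (2 * q - 1) * p ^ k + (2 * q - 1) = (2 * q - 1) * (p ^ k + 1) := by ring
  rw [e0] at h
  -- `q ^ 2 - 1` divides `3 (p ^ k + 1)`
  have h2 : q ^ 2 - 1 ∣ 3 * (p ^ k + 1) := by
    have h3 : q ^ 2 - 1 ∣ (2 * q + 1) * ((2 * q - 1) * (p ^ k + 1)) := Dvd.dvd.mul_left h _
    have h4 : (2 * q + 1) * ((2 * q - 1) * (p ^ k + 1)) = (q ^ 2 - 1) * (4 * (p ^ k + 1)) + 3 * (p ^ k + 1) := by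
      obtain ⟨r, rfl⟩ : ∃ r, q = r + 1 := ⟨q - 1, by omega⟩
      have a1 : 2 * (r + 1) - 1 = 2 * r + 1 := by omega
      have a2 : (r + 1) ^ 2 - 1 = r * (r + 2) := by
        have : (r + 1) ^ 2 = r * (r + 2) + 1 := by ring
        rw [this, Nat.add_sub_cancel]
      rw [a1, a2]
      ring
    rw [h4] at h3
    exact (Nat.dvd_add_right (Dvd.intro _ rfl)).1 h3
  by_cases h3 : p = 3
  · subst h3
    refine a1 hp hp2 hf hq k ?_
    have h5 : (q ^ 2 - 1).Coprime 3 := by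
      rw [Nat.coprime_comm, Nat.prime_three.coprime_iff_not_dvd]
      intro h6
      have h7 : 3 ∣ q ^ 2 := Dvd.dvd.pow (by rw [hq]; exact dvd_pow_self 3 hf.ne') (by norm_num)
      have h8 : 1 ≤ q ^ 2 := Nat.one_le_pow _ _ (by omega)
      have h9 : 3 ∣ q ^ 2 - (q ^ 2 - 1) := Nat.dvd_sub h7 h6
      rw [Nat.sub_sub_self h8] at h9
      omega
    exact h5.dvd_of_dvd_mul_left h2
  · have h5 : 5 ≤ p := by
      rcases Nat.lt_or_ge p 5 with h | h
      · have h6 : p = 4 := by omega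
        subst h6
        exact absurd hp (by norm_num)
      · exact h
    have e2 : q ^ 2 = p ^ (2 * f) := by rw [hq, ← pow_mul, mul_comm]
    have e3 : p ^ (2 * f) = p ^ (2 * f - 1) * p := by rw [← pow_succ]; congr 1; omega
    have e4 : 5 ≤ p ^ (2 * f - 1) := by
      calc 5 ≤ p := h5
        _ = p ^ 1 := (pow_one p).symm
        _ ≤ p ^ (2 * f - 1) := Nat.pow_le_pow_right (by omega) (by omega)
    have e5 : p ^ (2 * f - 1) * 5 ≤ p ^ (2 * f - 1) * p := Nat.mul_le_mul_left _ h5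
    have := not_dvd_mul_add (p := p) (e := 2 * f) (c := 3) (k := k) (by omega) (by norm_num) (by omega) (by omega)
    rw [← e2] at this
    exact this h2

include hp hp2 hf hq in
theorem b1 : ¬ q ^ 2 - 1 ∣ q + 1 := by
  intro h
  have h1 := three_le_q hp hp2 hf hq
  have := Nat.le_of_dvd (by omega) h
  have h2 : q ^ 2 - 1 = (q - 1) * (q + 1) := q2 (by omega)
  rw [h2] at this
  have h3 : 2 * (q + 1) ≤ (q - 1) * (q + 1) := Nat.mul_le_mul_right _ (by omega)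
  omega

include hp hp2 hf hq in
theorem b2 (h3 : q ≠ 3) (k : ℕ) : ¬ q ^ 2 - 1 ∣ 2 * p ^ k + 2 := by
  intro h
  have h0 := three_le hp hp2
  have e0 : 2 * p ^ k + 2 = 2 * (p ^ k + 1) := by ring
  rw [e0] at h
  have e2 : q ^ 2 = p ^ (2 * f) := by rw [hq, ← pow_mul, mul_comm]
  have e3 : p ^ (2 * f) = p ^ (2 * f - 1) * p := by rw [← pow_succ]; congr 1; omega
  have e4 : p ≤ p ^ (2 * f - 1) := by
    calc p = p ^ 1 := (pow_one p).symm
      _ ≤ p ^ (2 * f - 1) := Nat.pow_le_pow_right (by omega) (by omega)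
  have e6 : 2 * (p ^ (2 * f - 1) + 1) < p ^ (2 * f) - 1 := by
    rw [e3]
    by_cases h4 : p = 3
    · subst h4
      have h5 : 2 ≤ f := by
        rcases Nat.lt_or_ge f 2 with h | h
        · exfalso
          have : f = 1 := by omega
          subst this
          exact h3 hq
        · exact h
      have e5 : 3 ^ 3 ≤ 3 ^ (2 * f - 1) := Nat.pow_le_pow_right (by omega) (by omega)
      omega
    · have e5 : p ^ (2 * f - 1) * 4 ≤ p ^ (2 * f - 1) * p := Nat.mul_le_mul_left _ (by omega)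
      omega
  have := not_dvd_mul_add (p := p) (e := 2 * f) (c := 2) (k := k) (by omega) (by norm_num) (by omega) e6
  rw [← e2] at this
  exact this h

include hp hp2 hf hq in
theorem b3 (h3 : q ≠ 3) (k : ℕ) : ¬ (q - 1) * p ^ k ≡ 2 [MOD q ^ 2 - 1] := by
  intro h
  have h1 := three_le_q hp hp2 hf hq
  have h2 := h.of_dvd (dvd_left (by omega))
  have h3 : (q - 1) * p ^ k ≡ 0 [MOD q - 1] := (Nat.modEq_zero_iff_dvd).2 (Dvd.intro _ rfl)
  have h4 := (h2.symm.trans h3)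
  have h5 := (Nat.modEq_zero_iff_dvd).1 h4
  have := Nat.le_of_dvd (by norm_num) h5
  omega

include hp hp2 hf hq in
theorem b4 (h3 : q ≠ 3) : ¬ q ^ 2 - 1 ∣ 2 * (q + 1) := by
  intro h
  have h1 := three_le_q hp hp2 hf hq
  rw [q2 (by omega)] at h
  have := Nat.le_of_dvd (by norm_num) (Nat.dvd_of_mul_dvd_mul_right (by omega) h)
  have h5 := Nat.dvd_of_mul_dvd_mul_right (by omega) h
  have h6 : q ≤ 3 := by omega
  omega

include hp hp2 hf hq in
theorem b5 (h3 : q ≠ 3) (k : ℕ) : ¬ q ^ 2 - 1 ∣ (q + 1) * p ^ k + (q + 1) := by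
  intro h
  have h1 := three_le_q hp hp2 hf hq
  have h0 := three_le hp hp2
  have e0 : (q + 1) * p ^ k + (q + 1) = (p ^ k + 1) * (q + 1) := by ring
  rw [e0, q2 (by omega)] at h
  have h2 : q - 1 ∣ p ^ k + 1 := Nat.dvd_of_mul_dvd_mul_right (by omega) h
  rw [hq] at h2
  have e3 : p ^ f = p ^ (f - 1) * p := by rw [← pow_succ]; congr 1; omega
  have e6 : 1 * (p ^ (f - 1) + 1) < p ^ f - 1 := by
    rw [e3, one_mul]
    rcases Nat.lt_or_ge f 2 with h4 | h4
    · have : f = 1 := by omega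
      subst this
      rw [Nat.sub_self, pow_zero]
      rw [pow_one] at hq
      omega
    · have e4 : p ≤ p ^ (f - 1) := by
        calc p = p ^ 1 := (pow_one p).symm
          _ ≤ p ^ (f - 1) := Nat.pow_le_pow_right (by omega) (by omega)
      have e5 : p ^ (f - 1) * 3 ≤ p ^ (f - 1) * p := Nat.mul_le_mul_left _ h0
      omega
  have := not_dvd_mul_add (p := p) (e := f) (c := 1) (k := k) (by omega) (by norm_num) hf e6
  rw [one_mul] at this
  exact this h2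

end Cfsg.Agent.H67.QArith
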