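import Mathlib
import Cfsg.Agent.H67.Chain
import Cfsg.Agent.KFacts.Mult.WittTwo

/-!
# Models over Witt frames (`ε = 1`, any characteristic): the chain of the positive root groups

`comm_mem` : `[V (k+1), V n] ≤ V k`, `V k` the group generated by the root elements of key `< k`.
-/

set_option autoImplicit false
set_option linter.unusedVariables false

namespace Cfsg.Agent.H67.WittC

open Subgroup
open Cfsg.Agent.TitsThree.Siegel Cfsg.Agent.TitsThree.WittFrame Cfsg.Agent.TitsThree.WittWeyl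
open Cfsg.Agent.TitsThree.FrameCN
open Cfsg.Agent.KFacts.Mult.ChainZ (Vk mem_Vk Vk_le Vk_mono Vk_zero Vk_succ)
open Cfsg.Agent.KFacts.Mult.WittTwo hiding X_swap br_XZ br_ZZ
open scoped commutatorElement

/-! ### Chains given by generators -/

section Gens

variable {X : Type*} [Group X] {gens : ℕ → Set X} {n : ℕ}

theorem normal_of_gens (hinv : ∀ k, ∀ g ∈ gens k, g⁻¹ ∈ gens k)
    (h : ∀ k < n, ∀ g ∈ gens k, ∀ l < n, ∀ u ∈ gens l, ⁅g, u⁆ ∈ Vk gens k) {i : ℕ} (hi : i ≤ n) :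
    ∀ u ∈ Vk gens n, ∀ v ∈ Vk gens i, u * v * u⁻¹ ∈ Vk gens i := by
  have key : ∀ l < n, ∀ u ∈ gens l, ∀ v ∈ Vk gens i, u * v * u⁻¹ ∈ Vk gens i := by
    intro l hl u hu
    have h1 : Vk gens i ≤ (Vk gens i).comap (MulAut.conj u).toMonoidHom := by
      refine Vk_le fun j hj g hg => ?_
      show u * g * u⁻¹ ∈ Vk gens i
      have h2 := h j (by omega) g hg l hl u hu
      have e : u * g * u⁻¹ = ⁅g, u⁆⁻¹ * g := by rw [commutatorElement_def]; group
      rw [e]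
      exact mul_mem (inv_mem (Vk_mono hj.le h2)) (mem_Vk hj hg)
    intro v hv
    exact h1 hv
  have h2 : Vk gens n ≤ normalizer ((Vk gens i : Subgroup X) : Set X) := by
    refine Vk_le fun l hl u hu => ?_
    rw [mem_normalizer_iff]
    intro v
    refine ⟨fun hv => key l hl u hu v hv, fun hv => ?_⟩
    have h3 := key l hl u⁻¹ (hinv l u hu) _ hv
    have e : u⁻¹ * (u * v * u⁻¹) * u⁻¹⁻¹ = v := by group
    rwa [e] at h3
  intro u hu v hv
  exact (mem_normalizer_iff.1 (h2 hu) v).1 hv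

theorem comm_of_gens (hinv : ∀ k, ∀ g ∈ gens k, g⁻¹ ∈ gens k)
    (h : ∀ k < n, ∀ g ∈ gens k, ∀ l < n, ∀ u ∈ gens l, ⁅g, u⁆ ∈ Vk gens k) {i : ℕ} (hi : i < n) :
    ∀ v ∈ Vk gens (i + 1), ∀ u ∈ Vk gens n, ⁅v, u⁆ ∈ Vk gens i := by
  have hn := normal_of_gens hinv h hi.le
  have h1 : ∀ g ∈ gens i, ∀ u ∈ Vk gens n, ⁅g, u⁆ ∈ Vk gens i := by
    intro g hg
    let S : Subgroup X :=
      { carrier := {u | u ∈ Vk gens n ∧ ⁅g, u⁆ ∈ Vk gens i}
        one_mem' := ⟨one_mem _, by rw [commutatorElement_one_right]; exact one_mem _⟩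
        mul_mem' := by
          rintro a b ⟨ha, ha'⟩ ⟨hb, hb'⟩
          refine ⟨mul_mem ha hb, ?_⟩
          have e : ⁅g, a * b⁆ = ⁅g, a⁆ * (a * ⁅g, b⁆ * a⁻¹) := by simp only [commutatorElement_def]; group
          rw [e]
          exact mul_mem ha' (hn a ha _ hb')
        inv_mem' := by
          rintro a ⟨ha, ha'⟩
          refine ⟨inv_mem ha, ?_⟩
          have e : ⁅g, a⁻¹⁆ = a⁻¹ * ⁅g, a⁆⁻¹ * a⁻¹⁻¹ := by simp only [commutatorElement_def]; group
          rw [e]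
          exact hn a⁻¹ (inv_mem ha) _ (inv_mem ha') }
    have h2 : Vk gens n ≤ S := Vk_le fun l hl u hu => ⟨mem_Vk hl hu, h i hi g hg l hl u hu⟩
    exact fun u hu => (h2 hu).2
  intro v hv u hu
  let S : Subgroup X :=
    { carrier := {v | v ∈ Vk gens n ∧ ⁅v, u⁆ ∈ Vk gens i}
      one_mem' := ⟨one_mem _, by rw [commutatorElement_one_left]; exact one_mem _⟩
      mul_mem' := by
        rintro a b ⟨ha, ha'⟩ ⟨hb, hb'⟩
        refine ⟨mul_mem ha hb, ?_⟩
        have e : ⁅a * b, u⁆ = (a * ⁅b, u⁆ * a⁻¹) * ⁅a, u⁆ := by simp only [commutatorElement_def]; group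
        rw [e]
        exact mul_mem (hn a ha _ hb') ha'
      inv_mem' := by
        rintro a ⟨ha, ha'⟩
        refine ⟨inv_mem ha, ?_⟩
        have e : ⁅a⁻¹, u⁆ = a⁻¹ * ⁅a, u⁆⁻¹ * a⁻¹⁻¹ := by simp only [commutatorElement_def]; group
        rw [e]
        exact hn a⁻¹ (inv_mem ha) _ (inv_mem ha') }
  have h2 : Vk gens (i + 1) ≤ S := by
    refine Vk_succ (fun g hg => ⟨mem_Vk hi hg, h1 g hg u hu⟩) ?_
    intro v hv
    refine ⟨Vk_mono hi.le hv, ?_⟩
    have e : ⁅v, u⁆ = v * (u * v⁻¹ * u⁻¹) := by rw [commutatorElement_def]; group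
    rw [e]
    exact mul_mem hv (hn u hu _ (inv_mem hv))
  exact (h2 hv).2

end Gens

variable {F : Type*} [Field F] {V : Type*} [AddCommGroup V] [Module F V] {H : HForm F V} {m : ℕ}
  {Fr : Frame H (Fin m)} {K : Type*} [Group K]

/-! ### Relations -/

section Rel

variable (M : Model Fr K) (hε : H.ε = 1)

include hε in
theorem X_swap {x y : Fin m × Bool} (h : x.1 ≠ y.1) (t : F) : M.X x y t = M.X y x (-H.σ t) := by
  rw [Model.X, Model.X]
  congr 1
  apply Subtype.ext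
  show Fr.X x y t = Fr.X y x (-H.σ t)
  rw [Fr.X_swap h, eta hε, eta hε, hε, inv_one, one_mul, one_mul, one_mul]

include hε in
/-- (R4) -/
theorem br_XZ {x y : Fin m × Bool} (hxy : x.1 ≠ y.1) (t : F) (p : Fr.Adm) :
    ⁅M.X x (neg y) t, M.Z y p⁆ = M.Z x (Frame.Adm.smul (H.σ t) p) * M.X x y (-(H.σ p.c * t)) := by
  rw [Model.X, Model.Z, Model.Z, Model.X, ← map_mul]
  apply comm_of_eq M
  have h1 := Fr.conj_X_Z hxy t p
  rw [eta hε, hε, inv_one, one_mul, one_mul] at h1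
  exact h1

include hε in
/-- (R5) -/
theorem br_ZZ {x y : Fin m × Bool} (hxy : x.1 ≠ y.1) (p q : Fr.Adm) :
    ⁅M.Z x p, M.Z y q⁆ = M.X x y (-H.σ (H.h p.w q.w)) := by
  rw [Model.Z, Model.Z, Model.X]
  apply comm_of_eq M
  have h1 := Fr.Z_mul_Z hxy p q
  rw [eta hε, one_mul] at h1
  show Fr.Z x p * Fr.Z y q * (Fr.Z x p)⁻¹ = _
  rw [h1]
  show Fr.X x y _ * (Fr.Z y q * Fr.Z x p) * (Fr.Z x p)⁻¹ = Fr.X x y _ * Fr.Z y q
  group

theorem Z_comm (x : Fin m × Bool) (p q : Fr.Adm) : ⁅M.Z x p, M.Z x q⁆ = M.Z x ⁅p, q⁆ := by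
  simp only [commutatorElement_def, ← Z_inv, ← Z_mul]

theorem comm_w (p q : Fr.Adm) : (⁅p, q⁆ : Fr.Adm).w = 0 := by
  simp only [commutatorElement_def, Frame.Adm.mul_w, Frame.Adm.inv_w]
  abel

include hε in
theorem comm_tr (p q : Fr.Adm) : (⁅p, q⁆ : Fr.Adm) = Frame.Adm.tr (H.h p.w q.w) := by
  rw [commutatorElement_def, mul_inv_eq_iff_eq_mul, mul_inv_eq_iff_eq_mul]
  ext
  · simp [add_comm]
  · simp only [Frame.Adm.mul_c, Frame.Adm.tr_c, Frame.Adm.tr_w, Frame.Adm.mul_w, hε, inv_one, one_mul, zero_add,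
      H.zero_right, sub_zero]
    rw [H.swap p.w q.w, hε, one_mul, H.swap q.w p.w, hε, one_mul, H.σσ]
    ring

theorem comm_of_w_zero {p : Fr.Adm} (hp : p.w = 0) (q : Fr.Adm) : (⁅p, q⁆ : Fr.Adm) = 1 := by
  rw [commutatorElement_eq_one_iff_mul_comm]
  ext
  · simp [add_comm]
  · simp only [Frame.Adm.mul_c, hp, H.zero_left, H.zero_right]
    ring

end Rel

/-! ### Commutators of the generators -/

section Comm

variable (M : Model Fr K) (hε : H.ε = 1)

theorem X_mem {x y : Fin m × Bool} (h : Ps x y) (t : F) {k : ℕ} (hk : key m (pos x) (pos y) < k) :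
    M.X x y t ∈ Vk (gens M) k := mem_Vk hk (X_mem_gens M h t)

theorem Z_mem {x : Fin m × Bool} (h : x.2 = true) (p : Fr.Adm) {k : ℕ} (hk : key m (pos x) m < k) :
    M.Z x p ∈ Vk (gens M) k := mem_Vk hk (Z_mem_gens M h p)

theorem C_mem {x : Fin m × Bool} (h : x.2 = true) {p : Fr.Adm} (hp : p.w = 0) {k : ℕ}
    (hk : key m (pos x) (pos x) < k) : M.Z x p ∈ Vk (gens M) k := mem_Vk hk (C_mem_gens M h p hp)

theorem pos_lt_neg {x : Fin m × Bool} (h : x.2 = true) : m < pos (neg x) := by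
  have h1 := (pos_lt_iff x).2 h
  rw [pos_neg]; omega

theorem ps_true {x y : Fin m × Bool} (h : x.1 ≠ y.1) (hx : x.2 = true) (hy : y.2 = true) : Ps x y := by
  refine ⟨h, ?_⟩
  have h1 := (pos_lt_iff x).2 hx
  have h2 := (pos_lt_iff y).2 hy
  omega

include hε in
/-- `X`, `X`, one coincidence -/
theorem cXX {x y w : Fin m × Bool} (h1 : Ps x y) (h2 : Ps (neg y) w) (s t : F) :
    ⁅M.X x y s, M.X (neg y) w t⁆ ∈ Vk (gens M) (key m (pos x) (pos y)) := by
  have hx := pos_le x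
  have hy := pos_le y
  have hw := pos_le w
  have h3 := h2.2
  have h4 := h1.2
  rw [pos_neg] at h3
  have hwy : pos w < pos y := by omega
  have hyw : y.1 ≠ w.1 := h2.1
  by_cases hxw : x.1 = w.1
  · by_cases e : w = x
    · subst e
      have e2 : M.X (neg y) w t = M.X w (neg y) (-H.σ t) := X_swap M hε (x := neg y) hyw t
      rw [e2, br_same M hε h1.1]
      refine C_mem M ((pos_lt_iff w).1 (by omega)) (Frame.Adm.tr_w _) ?_
      exact key_lt_of_lt hx hy hwy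
    · exfalso
      have e3 : w = neg x := by
        by_contra h5
        exact (fst_ne e h5) hxw.symm
      have := pos_neg x
      rw [e3] at h3
      omega
  · rw [br_XX M h1.1 hyw hxw]
    exact X_mem M ⟨hxw, by omega⟩ _ (key_lt_of_lt hx hy hwy)

theorem ne_of_ne_neg {x y z w : Fin m × Bool} (h1 : z ≠ neg x) (h2 : z ≠ neg y) (h3 : w ≠ neg x) (h4 : w ≠ neg y)
    (s t : F) : ⁅M.X x y s, M.X z w t⁆ = 1 :=
  commutatorElement_eq_one_iff_commute.2 (M.commute_XX h1 h2 h3 h4 s t)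

include hε in
/-- `X`, `X` -/
theorem cXX' {x y z w : Fin m × Bool} (h1 : Ps x y) (h2 : Ps z w) (s t : F) :
    ⁅M.X x y s, M.X z w t⁆ ∈ Vk (gens M) (key m (pos x) (pos y)) := by
  have hyw : z.1 ≠ w.1 := h2.1
  by_cases a1 : z = neg y
  · subst a1; exact cXX M hε h1 h2 s t
  by_cases a2 : w = neg y
  · subst a2
    rw [X_swap M hε h2.1 t]
    exact cXX M hε h1 h2.symm s _
  by_cases a3 : z = neg x
  · subst a3
    rw [X_swap M hε h1.1 s, key_comm]
    exact cXX M hε h1.symm h2 _ t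
  by_cases a4 : w = neg x
  · subst a4
    rw [X_swap M hε h1.1 s, X_swap M hε h2.1 t, key_comm]
    exact cXX M hε h1.symm h2.symm _ _
  rw [ne_of_ne_neg M a3 a1 a4 a2]
  exact one_mem _

include hε in
/-- `X`, `Z` -/
theorem cXZ {x y z : Fin m × Bool} (h1 : Ps x y) (hz : z.2 = true) (s : F) (p : Fr.Adm) :
    ⁅M.X x y s, M.Z z p⁆ ∈ Vk (gens M) (key m (pos x) (pos y)) := by
  have key1 : ∀ {x y : Fin m × Bool}, Ps x y → y = neg z → ∀ s,
      ⁅M.X x y s, M.Z z p⁆ ∈ Vk (gens M) (key m (pos x) (pos y)) := by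
    rintro x y h1 rfl s
    have h2 := h1.2
    have h3 := pos_lt_neg hz
    have h4 := pos_neg z
    have h5 := (pos_lt_iff z).2 hz
    have hxz : x.1 ≠ z.1 := h1.1
    rw [br_XZ M hε hxz]
    have hx : x.2 = true := (pos_lt_iff x).1 (by omega)
    refine mul_mem (Z_mem M hx _ ?_) (X_mem M ⟨hxz, by omega⟩ _ ?_)
    · exact key_lt_of_lt (pos_le x) (pos_le _) h3
    · exact key_lt_of_lt (pos_le x) (pos_le _) (by omega)
  by_cases a1 : y = neg z
  · exact key1 h1 a1 s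
  by_cases a2 : x = neg z
  · rw [X_swap M hε h1.1 s, key_comm]
    exact key1 h1.symm a2 _
  · rw [commutatorElement_eq_one_iff_commute.2 (M.commute_ZX a2 a1 p s).symm]
    exact one_mem _

include hε in
/-- `Z`, `X` -/
theorem cZX {x z w : Fin m × Bool} (hx : x.2 = true) (h1 : Ps z w) (p : Fr.Adm) (s : F) :
    ⁅M.Z x p, M.X z w s⁆ ∈ Vk (gens M) (key m (pos x) m) := by
  have key1 : ∀ {z w : Fin m × Bool}, Ps z w → w = neg x → ∀ s,
      ⁅M.Z x p, M.X z w s⁆ ∈ Vk (gens M) (key m (pos x) m) := by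
    rintro z w h1 rfl s
    have h2 := h1.2
    have h3 := pos_lt_neg hx
    have h4 := pos_neg x
    have h5 := (pos_lt_iff x).2 hx
    have hzx : z.1 ≠ x.1 := h1.1
    rw [← commutatorElement_inv, br_XZ M hε hzx]
    have hz : z.2 = true := (pos_lt_iff z).1 (by omega)
    refine inv_mem (mul_mem (Z_mem M hz _ ?_) (X_mem M ⟨hzx, by omega⟩ _ ?_))
    · exact key_lt_of_lt' (by omega) (pos_le _) (by omega)
    · rw [key_comm]; exact key_lt_of_lt (pos_le x) (by omega) (by omega)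
  by_cases a1 : w = neg x
  · exact key1 h1 a1 s
  by_cases a2 : z = neg x
  · rw [X_swap M hε h1.1 s]
    exact key1 h1.symm a2 _
  · rw [commutatorElement_eq_one_iff_commute.2 (M.commute_ZX a2 a1 p s)]
    exact one_mem _

include hε in
/-- `C`, `X` -/
theorem cCX {x z w : Fin m × Bool} (hx : x.2 = true) (h1 : Ps z w) {p : Fr.Adm} (hp : p.w = 0) (s : F) :
    ⁅M.Z x p, M.X z w s⁆ ∈ Vk (gens M) (key m (pos x) (pos x)) := by
  have key1 : ∀ {z w : Fin m × Bool}, Ps z w → w = neg x → ∀ s,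
      ⁅M.Z x p, M.X z w s⁆ ∈ Vk (gens M) (key m (pos x) (pos x)) := by
    rintro z w h1 rfl s
    have h2 := h1.2
    have h3 := pos_lt_neg hx
    have h4 := pos_neg x
    have h5 := (pos_lt_iff x).2 hx
    have hzx : z.1 ≠ x.1 := h1.1
    rw [← commutatorElement_inv, br_XZ M hε hzx]
    have hz : z.2 = true := (pos_lt_iff z).1 (by omega)
    refine inv_mem (mul_mem (C_mem M hz (by rw [Frame.Adm.smul_w, hp, smul_zero]) ?_)
      (X_mem M ⟨hzx, by omega⟩ _ ?_))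
    · exact (key_lt_of_lt (pos_le z) (pos_le x) (by omega)).trans (key_lt_of_lt' (pos_le x) (pos_le x) (by omega))
    · exact key_lt_of_lt' (pos_le x) (pos_le x) (by omega)
  by_cases a1 : w = neg x
  · exact key1 h1 a1 s
  by_cases a2 : z = neg x
  · rw [X_swap M hε h1.1 s]
    exact key1 h1.symm a2 _
  · rw [commutatorElement_eq_one_iff_commute.2 (M.commute_ZX a2 a1 p s)]
    exact one_mem _

theorem fst_ne_of_true {x y : Fin m × Bool} (hx : x.2 = true) (hy : y.2 = true) (h : x ≠ y) : x.1 ≠ y.1 := by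
  intro h1
  exact h (Prod.ext h1 (by rw [hx, hy]))

include hε in
/-- `Z`, `Z` -/
theorem cZZ {x y : Fin m × Bool} (hx : x.2 = true) (hy : y.2 = true) (p q : Fr.Adm) :
    ⁅M.Z x p, M.Z y q⁆ ∈ Vk (gens M) (key m (pos x) m) := by
  have h1 := (pos_lt_iff x).2 hx
  have h2 := (pos_lt_iff y).2 hy
  by_cases e : x = y
  · subst e
    rw [Z_comm]
    exact C_mem M hx (comm_w p q) (key_lt_of_lt (pos_le x) (by omega) h1)
  · have h3 := fst_ne_of_true hx hy e
    rw [br_ZZ M hε h3]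
    exact X_mem M (ps_true h3 hx hy) _ (key_lt_of_lt (pos_le x) (by omega) h2)

include hε in
/-- `C`, `Z` -/
theorem cCZ {x y : Fin m × Bool} (hx : x.2 = true) (hy : y.2 = true) {p : Fr.Adm} (hp : p.w = 0) (q : Fr.Adm) :
    ⁅M.Z x p, M.Z y q⁆ = 1 := by
  by_cases e : x = y
  · subst e
    rw [Z_comm, comm_of_w_zero hp, Z_one]
  · have h3 := fst_ne_of_true hx hy e
    rw [br_ZZ M hε h3, hp, H.zero_left, map_zero, neg_zero, X_zero]

include hε in
theorem gens_comm {k l : ℕ} {g u : K} (hg : g ∈ gens M k) (hu : u ∈ gens M l) : ⁅g, u⁆ ∈ Vk (gens M) k := by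
  rcases gens_cases M hg with ⟨x, y, s, h1, -, rfl, rfl⟩ | ⟨x, p, hx, rfl, rfl⟩ | ⟨x, p, hx, hp, rfl, rfl⟩
  · rcases gens_cases M hu with ⟨z, w, t, h2, -, rfl, rfl⟩ | ⟨z, q, hz, rfl, rfl⟩ | ⟨z, q, hz, hq, rfl, rfl⟩
    · exact cXX' M hε h1 h2 s t
    · exact cXZ M hε h1 hz s q
    · exact cXZ M hε h1 hz s q
  · rcases gens_cases M hu with ⟨z, w, t, h2, -, rfl, rfl⟩ | ⟨z, q, hz, rfl, rfl⟩ | ⟨z, q, hz, hq, rfl, rfl⟩
    · exact cZX M hε hx h2 p t
    · exact cZZ M hε hx hz p q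
    · exact cZZ M hε hx hz p q
  · rcases gens_cases M hu with ⟨z, w, t, h2, -, rfl, rfl⟩ | ⟨z, q, hz, rfl, rfl⟩ | ⟨z, q, hz, hq, rfl, rfl⟩
    · exact cCX M hε hx h2 hp t
    · rw [cCZ M hε hx hz hp q]; exact one_mem _
    · rw [cCZ M hε hx hz hp q]; exact one_mem _

theorem gens_inv {k : ℕ} {g : K} (hg : g ∈ gens M k) : g⁻¹ ∈ gens M k := by
  obtain ⟨g, h, rfl⟩ := hg
  exact ⟨g⁻¹, h.inv, map_inv _ _⟩

include hε in
theorem comm_mem {n i : ℕ} (hi : i < n) :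
    ∀ v ∈ Vk (gens M) (i + 1), ∀ u ∈ Vk (gens M) n, ⁅v, u⁆ ∈ Vk (gens M) i :=
  comm_of_gens (fun k g hg => gens_inv M hg) (fun k _ g hg l _ u hu => gens_comm M hε hg hu) hi

end Comm

end Cfsg.Agent.H67.WittC
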