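import Mathlib
import Cfsg.Agent.H67.WittC

/-!
# Models over Witt frames: the positive root groups are generated by the simple ones modulo commutators
-/

set_option autoImplicit false
set_option linter.unusedVariables false

namespace Cfsg.Agent.H67.WittG

open Subgroup
open Cfsg.Agent.TitsThree.Siegel Cfsg.Agent.TitsThree.WittFrame Cfsg.Agent.TitsThree.WittWeyl
open Cfsg.Agent.TitsThree.FrameCN
open Cfsg.Agent.KFacts.Mult.ChainZ (Vk mem_Vk Vk_le Vk_mono Vk_zero Vk_succ)
open Cfsg.Agent.KFacts.Mult.WittTwo hiding X_swap br_XZ br_ZZ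
open Cfsg.Agent.H67.WittC
open scoped commutatorElement

variable {F : Type*} [Field F] {V : Type*} [AddCommGroup V] [Module F V] {H : HForm F V} {m : ℕ}
  {Fr : Frame H (Fin m)} {K : Type*} [Group K]

/-- The anisotropic part is zero. -/
def Ev (Fr : Frame H (Fin m)) : Prop := ∀ w ∈ Fr.V0, w = 0

/-- The anisotropic part is a line. -/
structure Od (Fr : Frame H (Fin m)) (d : V) : Prop where
  mem : d ∈ Fr.V0
  one : H.h d d = 1
  span : ∀ w ∈ Fr.V0, ∃ a : F, w = a • d
  ex : ∀ a : F, ∃ p : Fr.Adm, p.w = a • d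

/-- The number of steps. -/
def len (m : ℕ) : ℕ := (2 * m + 1) * (2 * m + 1)

/-- The group of the positive root elements. -/
def U (M : Model Fr K) : Subgroup K := Vk (gens M) (len m)

variable (M : Model Fr K)

theorem U_eq : U M = Vk (gens M) (len m) := rfl

theorem X_memU {x y : Fin m × Bool} (h : Ps x y) (t : F) : M.X x y t ∈ U M :=
  WittC.X_mem M h t (key_lt_bound (pos_le _) (pos_le _))

theorem Z_memU {x : Fin m × Bool} (h : x.2 = true) (p : Fr.Adm) : M.Z x p ∈ U M :=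
  WittC.Z_mem M h p (key_lt_bound (pos_le _) (by omega))

/-- positions -/
theorem exists_pos {p : ℕ} (h1 : p ≤ 2 * m) (h2 : p ≠ m) : ∃ z : Fin m × Bool, pos z = p := by
  rcases Nat.lt_or_ge p m with h | h
  · exact ⟨(⟨p, h⟩, true), by simp [pos]⟩
  · refine ⟨(⟨2 * m - p, by omega⟩, false), ?_⟩
    simp [pos]
    omega

theorem fst_ne_of_pos {x y : Fin m × Bool} (h1 : pos x ≠ pos y) (h2 : pos x + pos y ≠ 2 * m) : x.1 ≠ y.1 := by
  refine fst_ne ?_ ?_
  · rintro rfl; exact h1 rfl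
  · rintro rfl
    apply h2
    have := pos_add_neg y
    omega

/-- every admissible element with `w = 0` is a trace element -/
theorem exists_tr (hε : H.ε = 1) (h2 : (2 : F) ≠ 0) {p : Fr.Adm} (hp : p.w = 0) :
    ∃ r : F, p = Frame.Adm.tr r := by
  have h1 := p.herm
  rw [hε, one_mul, hp, H.zero_left, neg_zero] at h1
  refine ⟨p.c / 2, ?_⟩
  ext
  · rw [hp, Frame.Adm.tr_w]
  · rw [Frame.Adm.tr_c, hε, inv_one, one_mul, map_div₀, map_ofNat]
    have h3 : H.σ p.c = -p.c := by linear_combination h1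
    rw [h3]
    field_simp
    ring

section Gen

variable (hε : H.ε = 1) (S : Subgroup K) (hc : ∀ a ∈ U M, ∀ b ∈ U M, ⁅a, b⁆ ∈ S)
  (hX : ∀ x y : Fin m × Bool, Ps x y → pos x + pos y + 1 = 2 * m → ∀ t, M.X x y t ∈ S)
  (hZ : ∀ x : Fin m × Bool, x.2 = true → pos x + 1 = m → ∀ p, M.Z x p ∈ S)

include hc hX in
/-- type I, except the root `e_{m-2} + e_{m-1}` -/
theorem gen_X {x y : Fin m × Bool} (h : Ps x y) (hlt : pos x < pos y)
    (hne : ¬ (pos x + 2 = m ∧ pos y + 1 = m)) (t : F) : M.X x y t ∈ S := by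
  have hx := pos_le x
  have hy := pos_le y
  have h1 := h.2
  by_cases h0 : pos x + pos y + 1 = 2 * m
  · exact hX x y h h0 t
  have key1 : ∀ p, pos y < p → p < 2 * m - pos x → p ≠ m → p ≠ 2 * m - pos y → M.X x y t ∈ S := by
    intro p hp1 hp2 hp3 hp4
    obtain ⟨z, hz⟩ := exists_pos (m := m) (p := p) (by omega) hp3
    have hxz : x.1 ≠ z.1 := fst_ne_of_pos (by omega) (by omega)
    have hzy : z.1 ≠ y.1 := fst_ne_of_pos (by omega) (by omega)
    have h3 := br_XX M hxz hzy h.1 t 1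
    rw [mul_one] at h3
    have a1 : Ps x z := ⟨hxz, by omega⟩
    have a2 : Ps (neg z) y := ⟨hzy, by rw [pos_neg]; omega⟩
    rw [← h3]
    exact hc _ (X_memU M a1 _) _ (X_memU M a2 _)
  by_cases h2 : pos y + 1 = m
  · exact key1 (m + 2) (by omega) (by omega) (by omega) (by omega)
  · exact key1 (pos y + 1) (by omega) (by omega) h2 (by omega)

include hε hc in
/-- the central elements of type II, except the last -/
theorem gen_C {x : Fin m × Bool} (hx : x.2 = true) (hne : pos x + 1 < m) (r : F) :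
    M.Z x (Frame.Adm.tr r) ∈ S := by
  obtain ⟨y, hy⟩ := exists_pos (m := m) (p := m - 1) (by omega) (by omega)
  have hxy : x.1 ≠ y.1 := fst_ne_of_pos (by omega) (by omega)
  have h3 := br_same M hε hxy 1 r
  rw [map_one, one_mul] at h3
  have a1 : Ps x y := ⟨hxy, by omega⟩
  have a2 : Ps x (neg y) := ⟨hxy, by rw [pos_neg]; omega⟩
  rw [← h3]
  exact hc _ (X_memU M a1 _) _ (X_memU M a2 _)

include hε hc hX hZ in
/-- **generation, even case** -/
theorem gen_even (h2 : (2 : F) ≠ 0) (hσ : ∃ s, H.σ s ≠ s) (hE : Ev Fr) : U M ≤ S := by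
  have hZ' : ∀ x : Fin m × Bool, x.2 = true → ∀ p, M.Z x p ∈ S := by
    intro x hx p
    have h3 := (pos_lt_iff x).2 hx
    by_cases h4 : pos x + 1 = m
    · exact hZ x hx h4 p
    · obtain ⟨r, rfl⟩ := exists_tr hε h2 (p := p) (hE _ (Fr.ok_mem p.ok))
      exact gen_C M hε S hc hx (by omega) r
  have hX' : ∀ x y : Fin m × Bool, Ps x y → pos x < pos y → ∀ t, M.X x y t ∈ S := by
    intro x y h hlt t
    by_cases h0 : pos x + 2 = m ∧ pos y + 1 = m
    · obtain ⟨h3, h4⟩ := h0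
      have hx : x.2 = true := (pos_lt_iff x).1 (by omega)
      have hy : y.2 = true := (pos_lt_iff y).1 (by omega)
      obtain ⟨r, hr⟩ := hσ
      set p : Fr.Adm := Frame.Adm.tr r with hp
      have hc0 : p.c ≠ 0 := by
        rw [hp, Frame.Adm.tr_c, hε, inv_one, one_mul, sub_ne_zero]
        exact hr.symm
      have hc1 : H.σ p.c ≠ 0 := by
        rw [Ne, map_eq_zero]; exact hc0
      have h5 := br_XZ M hε h.1 (-((H.σ p.c)⁻¹ * t)) p
      have e : -(H.σ p.c * -((H.σ p.c)⁻¹ * t)) = t := by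
        field_simp
      rw [e] at h5
      have h6 : M.X x y t = (M.Z x (Frame.Adm.smul (H.σ (-((H.σ p.c)⁻¹ * t))) p))⁻¹ *
          ⁅M.X x (neg y) (-((H.σ p.c)⁻¹ * t)), M.Z y p⁆ := by
        rw [h5, inv_mul_cancel_left]
      have a1 : Ps x (neg y) := ⟨h.1, by rw [pos_neg]; omega⟩
      rw [h6]
      exact mul_mem (inv_mem (hZ' x hx _)) (hc _ (X_memU M a1 _) _ (Z_memU M hy _))
    · exact gen_X M S hc hX h hlt h0 t
  refine Vk_le fun k hk g hg => ?_
  rcases gens_cases M hg with ⟨x, y, s, h1, h3, -, rfl⟩ | ⟨x, p, hx, -, rfl⟩ | ⟨x, p, hx, hp, -, rfl⟩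
  · exact hX' x y h1 h3 s
  · exact hZ' x hx p
  · exact hZ' x hx p

include hε hc hX hZ in
/-- **generation, odd case** -/
theorem gen_odd {d : V} (hO : Od Fr d) : U M ≤ S := by
  obtain ⟨P, hP⟩ := Classical.axiomOfChoice hO.ex
  have hh : ∀ a b : F, H.h (P a).w (P b).w = a * H.σ b := by
    intro a b
    rw [hP, hP, H.smul_left, H.smul_right, hO.one]
    ring
  have hX' : ∀ x y : Fin m × Bool, Ps x y → pos x < pos y → ∀ t, M.X x y t ∈ S := by
    intro x y h hlt t
    by_cases h0 : pos x + 2 = m ∧ pos y + 1 = m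
    · obtain ⟨h3, h4⟩ := h0
      have hx : x.2 = true := (pos_lt_iff x).1 (by omega)
      have hy : y.2 = true := (pos_lt_iff y).1 (by omega)
      have h5 := br_ZZ M hε h.1 (P 1) (P (-t))
      rw [hh, one_mul, H.σσ, _root_.neg_neg] at h5
      rw [← h5]
      exact hc _ (Z_memU M hx _) _ (Z_memU M hy _)
    · exact gen_X M S hc hX h hlt h0 t
  have hZ' : ∀ x : Fin m × Bool, x.2 = true → ∀ p, M.Z x p ∈ S := by
    intro x hx p
    have h3 := (pos_lt_iff x).2 hx
    by_cases h4 : pos x + 1 = m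
    · exact hZ x hx h4 p
    · obtain ⟨y, hy⟩ := exists_pos (m := m) (p := m - 1) (by omega) (by omega)
      have hy2 : y.2 = true := (pos_lt_iff y).1 (by omega)
      have hxy : x.1 ≠ y.1 := fst_ne_of_pos (by omega) (by omega)
      have h5 := br_XZ M hε hxy 1 p
      rw [map_one, Frame.Adm.one_smul] at h5
      have h6 : M.Z x p = ⁅M.X x (neg y) 1, M.Z y p⁆ * (M.X x y (-(H.σ p.c * 1)))⁻¹ := by
        rw [h5, mul_inv_cancel_right]
      have a1 : Ps x (neg y) := ⟨hxy, by rw [pos_neg]; omega⟩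
      have a2 : Ps x y := ⟨hxy, by omega⟩
      rw [h6]
      exact mul_mem (hc _ (X_memU M a1 _) _ (Z_memU M hy2 _)) (inv_mem (hX' x y a2 (by omega) _))
  refine Vk_le fun k hk g hg => ?_
  rcases gens_cases M hg with ⟨x, y, s, h1, h3, -, rfl⟩ | ⟨x, p, hx, -, rfl⟩ | ⟨x, p, hx, hp, -, rfl⟩
  · exact hX' x y h1 h3 s
  · exact hZ' x hx p
  · exact hZ' x hx p

end Gen

end Cfsg.Agent.H67.WittG
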