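import Mathlib
import Cfsg.Agent.H67.Cross
import Cfsg.Agent.TitsThree.RankTwoZ

/-!
# Root data of rank two: the torus, central extensions in cross characteristic

* `torus_le`: the torus of a root datum `RGDZ m Y` generated by its root groups is the product of the tori of the two
  rank one subgroups `LI = ⟨X 1, X (m + 1)⟩`, `LJ = ⟨X m, X 0⟩`.
* `liftZ`: the lift of a root datum through a central extension by a `p'`-group.
* `noPCov`: no perfect central extensions with kernel of order `r ≠ p`, if `NoCE p r` holds for `LI` and `LJ` and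
  `|T ∩ LI| |T ∩ LJ| ≤ |T|`.
-/

set_option autoImplicit false
set_option linter.style.haveILetI false

namespace Cfsg.Agent.H67.RankTwo

open Cfsg.Agent.TitsThree.RankTwoZ Cfsg.Agent.TitsThree.RankTwoIdx Cfsg.Agent.TitsThree.RankTwoRGD
open Cfsg.Agent.Nodes.RGDLift Cfsg.Agent.Nodes.Reps Cfsg.Agent.H67.Cross
open scoped commutatorElement Pointwise

universe u

variable {m : ℕ} {Y : Type u} [Group Y]

/-- The rank one subgroup of the first simple root. -/
def LI (X : ZMod (2 * m) → Subgroup Y) : Subgroup Y := X 1 ⊔ X (m + 1)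

/-- The rank one subgroup of the second simple root. -/
def LJ (X : ZMod (2 * m) → Subgroup Y) : Subgroup Y := X m ⊔ X 0

section torus

variable (c : RGDZ m Y)

/-- The torus elements in the rank one subgroups. -/
def TI : Subgroup Y := torus c.X ⊓ LI c.X
def TJ : Subgroup Y := torus c.X ⊓ LJ c.X

theorem conj_mem_sup {A B : Subgroup Y} {g : Y} (hA : ∀ x, x ∈ A → g * x * g⁻¹ ∈ A ⊔ B)
    (hB : ∀ x, x ∈ B → g * x * g⁻¹ ∈ A ⊔ B) : ∀ x ∈ A ⊔ B, g * x * g⁻¹ ∈ A ⊔ B := by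
  have h : A ⊔ B ≤ (A ⊔ B).comap (MulAut.conj g).toMonoidHom := sup_le hA hB
  intro x hx
  exact h hx

theorem conj_LI {h : Y} (hh : h ∈ torus c.X) : ∀ x ∈ LI c.X, h * x * h⁻¹ ∈ LI c.X :=
  conj_mem_sup (fun _ hx => (le_sup_left : c.X 1 ≤ LI c.X) ((hh _ _).2 hx))
    (fun _ hx => (le_sup_right : c.X (m + 1) ≤ LI c.X) ((hh _ _).2 hx))

theorem conj_LJ {h : Y} (hh : h ∈ torus c.X) : ∀ x ∈ LJ c.X, h * x * h⁻¹ ∈ LJ c.X :=
  conj_mem_sup (fun _ hx => (le_sup_left : c.X m ≤ LJ c.X) ((hh _ _).2 hx))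
    (fun _ hx => (le_sup_right : c.X 0 ≤ LJ c.X) ((hh _ _).2 hx))

/-- The product of the two. -/
def HH : Subgroup Y := TI c ⊔ TJ c

theorem HH_le : HH c ≤ torus c.X := sup_le inf_le_left inf_le_left

/-- an element of `LI` (or `LJ`) normalising the torus normalises `HH` -/
theorem conj_HH_I {n : Y} (hn : n ∈ LI c.X) (hT : ∀ h ∈ torus c.X, n * h * n⁻¹ ∈ torus c.X) :
    ∀ h ∈ HH c, n * h * n⁻¹ ∈ HH c := by
  refine conj_mem_sup (fun x hx => ?_) (fun x hx => ?_)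
  · refine (le_sup_left : TI c ≤ HH c) (Subgroup.mem_inf.2 ⟨hT _ hx.1, ?_⟩)
    exact mul_mem (mul_mem hn hx.2) (inv_mem hn)
  · have h1 : n * x * n⁻¹ = (n * (x * n⁻¹ * x⁻¹)) * x := by group
    have h2 : x * n⁻¹ * x⁻¹ ∈ LI c.X := conj_LI c hx.1 _ (inv_mem hn)
    have h3 : n * (x * n⁻¹ * x⁻¹) ∈ torus c.X := by
      have e : n * (x * n⁻¹ * x⁻¹) = (n * x * n⁻¹) * x⁻¹ := by group
      rw [e]
      exact mul_mem (hT _ hx.1) (inv_mem hx.1)
    rw [h1]
    exact mul_mem ((le_sup_left : TI c ≤ HH c) (Subgroup.mem_inf.2 ⟨h3, mul_mem hn h2⟩))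
      ((le_sup_right : TJ c ≤ HH c) hx)

theorem conj_HH_J {n : Y} (hn : n ∈ LJ c.X) (hT : ∀ h ∈ torus c.X, n * h * n⁻¹ ∈ torus c.X) :
    ∀ h ∈ HH c, n * h * n⁻¹ ∈ HH c := by
  refine conj_mem_sup (fun x hx => ?_) (fun x hx => ?_)
  · have h1 : n * x * n⁻¹ = (n * (x * n⁻¹ * x⁻¹)) * x := by group
    have h2 : x * n⁻¹ * x⁻¹ ∈ LJ c.X := conj_LJ c hx.1 _ (inv_mem hn)
    have h3 : n * (x * n⁻¹ * x⁻¹) ∈ torus c.X := by
      have e : n * (x * n⁻¹ * x⁻¹) = (n * x * n⁻¹) * x⁻¹ := by group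
      rw [e]
      exact mul_mem (hT _ hx.1) (inv_mem hx.1)
    rw [h1]
    exact mul_mem ((le_sup_right : TJ c ≤ HH c) (Subgroup.mem_inf.2 ⟨h3, mul_mem hn h2⟩))
      ((le_sup_left : TI c ≤ HH c) hx)
  · refine (le_sup_right : TJ c ≤ HH c) (Subgroup.mem_inf.2 ⟨hT _ hx.1, ?_⟩)
    exact mul_mem (mul_mem hn hx.2) (inv_mem hn)

theorem nI_mem_LI : c.nI ∈ LI c.X := c.nI_mem

theorem nJ_mem_LJ : c.nJ ∈ LJ c.X := c.nJ_mem

theorem maps_conj {w : Y} {f : ZMod (2 * m) → ZMod (2 * m)} (hw : Maps c.X w f) {a b a' b' : ZMod (2 * m)}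
    (ha : f a = a') (hb : f b = b') {x : Y} (hx : x ∈ c.X a' ⊔ c.X b') : w⁻¹ * x * w ∈ c.X a ⊔ c.X b := by
  have h : c.X a' ⊔ c.X b' ≤ (c.X a ⊔ c.X b).comap (MulAut.conj w⁻¹).toMonoidHom := by
    refine sup_le ?_ ?_
    · intro y hy
      show w⁻¹ * y * w⁻¹⁻¹ ∈ c.X a ⊔ c.X b
      rw [inv_inv]
      refine (le_sup_left : c.X a ≤ c.X a ⊔ c.X b) ((hw _ _).1 ?_)
      rw [ha]
      have e : w * (w⁻¹ * y * w) * w⁻¹ = y := by group
      rwa [e]
    · intro y hy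
      show w⁻¹ * y * w⁻¹⁻¹ ∈ c.X a ⊔ c.X b
      rw [inv_inv]
      refine (le_sup_right : c.X b ≤ c.X a ⊔ c.X b) ((hw _ _).1 ?_)
      rw [hb]
      have e : w * (w⁻¹ * y * w) * w⁻¹ = y := by group
      rwa [e]
  have h1 := h hx
  have h2 : w⁻¹ * x * w⁻¹⁻¹ ∈ c.X a ⊔ c.X b := h1
  rwa [inv_inv] at h2

theorem alt_succ' {a b : Y} (k : ℕ) : alt a b (k + 1) = alt a b k * (if Even k then a else b) := by
  induction k generalizing a b with
  | zero => simp [alt_succ]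
  | succ k ih =>
    rw [alt_succ, ih, alt_succ a b k, mul_assoc]
    congr 2
    by_cases h : Even k
    · have h' : ¬ Even (k + 1) := by simpa [Nat.even_add_one] using h
      rw [if_pos h, if_neg h']
    · have h' : Even (k + 1) := by simpa [Nat.even_add_one] using h
      rw [if_neg h, if_pos h']

/-- The braid relation holds modulo `HH`. -/
theorem braid_HH : ∃ h ∈ HH c, alt c.nI c.nJ m = alt c.nJ c.nI m * h := by
  obtain ⟨k, hk⟩ : ∃ k, m = k + 1 := ⟨m - 1, by have := c.one_le; omega⟩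
  obtain ⟨h0, hh0, e0⟩ := c.braid
  refine ⟨(alt c.nJ c.nI m)⁻¹ * alt c.nI c.nJ m, ?_, by group⟩
  have hT : (alt c.nJ c.nI m)⁻¹ * alt c.nI c.nJ m ∈ torus c.X := by
    rw [e0, inv_mul_cancel_left]; exact hh0
  obtain ⟨-, hJ⟩ := c.alt_maps k
  set w := alt c.nJ c.nI k with hw
  have h2 : (2 : ZMod (2 * m)) * m = 0 := RGDZ.two_m
  have hmk : (m : ZMod (2 * m)) = (k : ZMod (2 * m)) + 1 := by
    have := congrArg (Nat.cast : ℕ → ZMod (2 * m)) hk
    rw [this]
    push_cast; ring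
  have e1 : alt c.nI c.nJ m = c.nI * w := by
    rw [hw, ← alt_succ, ← hk]
  by_cases h : Even k
  · -- `m` odd
    have e2 : alt c.nJ c.nI m = w * c.nJ := by
      have := alt_succ' (a := c.nJ) (b := c.nI) k
      rw [if_pos h, ← hk] at this
      exact this
    have e3 : (alt c.nJ c.nI m)⁻¹ * alt c.nI c.nJ m = c.nJ⁻¹ * (w⁻¹ * c.nI * w) := by
      rw [e1, e2]; group
    refine (le_sup_right : TJ c ≤ HH c) (Subgroup.mem_inf.2 ⟨hT, ?_⟩)
    rw [e3]
    refine mul_mem (inv_mem (nJ_mem_LJ c)) ?_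
    have h3 : w⁻¹ * c.nI * w ∈ c.X m ⊔ c.X 0 := by
      refine maps_conj c hJ (a' := 1) (b' := m + 1) ?_ ?_ (nI_mem_LI c)
      · simp only [h, if_true]
        linear_combination hmk
      · simp only [h, if_true]
        linear_combination - h2 + hmk
    exact h3
  · have e2 : alt c.nJ c.nI m = w * c.nI := by
      have := alt_succ' (a := c.nJ) (b := c.nI) k
      rw [if_neg h, ← hk] at this
      exact this
    have e3 : (alt c.nJ c.nI m)⁻¹ * alt c.nI c.nJ m = c.nI⁻¹ * (w⁻¹ * c.nI * w) := by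
      rw [e1, e2]; group
    refine (le_sup_left : TI c ≤ HH c) (Subgroup.mem_inf.2 ⟨hT, ?_⟩)
    rw [e3]
    refine mul_mem (inv_mem (nI_mem_LI c)) ?_
    have h3 : w⁻¹ * c.nI * w ∈ c.X 1 ⊔ c.X (m + 1) := by
      refine maps_conj c hJ (a' := 1) (b' := m + 1) ?_ ?_ (nI_mem_LI c)
      · simp only [h, if_false]
        linear_combination hmk
      · simp only [h, if_false]
        linear_combination hmk - h2
    exact h3

/-- The root datum with the torus `HH`. -/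
noncomputable def r2H : R2 m Y where
  X := c.r2.X
  XI' := c.r2.XI'
  XJ' := c.r2.XJ'
  H := HH c
  nI := c.nI
  nJ := c.nJ
  one_le := c.one_le
  comm := c.r2.comm
  HX := fun h hh => c.r2.HX h (HH_le c hh)
  nI_X := c.r2.nI_X
  nJ_X := c.r2.nJ_X
  nI_pos := c.r2.nI_pos
  nI_neg := c.r2.nI_neg
  nJ_pos := c.r2.nJ_pos
  nJ_neg := c.r2.nJ_neg
  nI_sq := (le_sup_left : TI c ≤ HH c)
    (Subgroup.mem_inf.2 ⟨c.r2.nI_sq, mul_mem (nI_mem_LI c) (nI_mem_LI c)⟩)
  nJ_sq := (le_sup_right : TJ c ≤ HH c)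
    (Subgroup.mem_inf.2 ⟨c.r2.nJ_sq, mul_mem (nJ_mem_LJ c) (nJ_mem_LJ c)⟩)
  nI_H := conj_HH_I c (nI_mem_LI c) c.r2.nI_H
  nJ_H := conj_HH_J c (nJ_mem_LJ c) c.r2.nJ_H
  rank_oneI := by
    intro a ha h1
    obtain ⟨x, hx, y, hy, h⟩ := c.muI a ha h1
    have hx' : x ∈ c.X ((1 : ℕ) : ZMod (2 * m)) := by simpa using hx
    have hy' : y ∈ c.X ((1 : ℕ) : ZMod (2 * m)) := by simpa using hy
    refine ⟨x⁻¹, inv_mem hx', c.nI⁻¹ * (x * a * y), ?_, y⁻¹, inv_mem hy', by group⟩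
    refine (le_sup_left : TI c ≤ HH c) (Subgroup.mem_inf.2 ⟨RGDZ.inv_mul_mem c.nI_maps h, ?_⟩)
    have l1 : c.X 1 ≤ LI c.X := le_sup_left
    have l2 : c.X (m + 1) ≤ LI c.X := le_sup_right
    exact mul_mem (inv_mem (nI_mem_LI c)) (mul_mem (mul_mem (l1 hx) (l2 ha)) (l1 hy))
  rank_oneJ := by
    intro a ha h1
    obtain ⟨x, hx, y, hy, h⟩ := c.muJ a ha h1
    refine ⟨x⁻¹, inv_mem hx, c.nJ⁻¹ * (x * a * y), ?_, y⁻¹, inv_mem hy, by group⟩
    refine (le_sup_right : TJ c ≤ HH c) (Subgroup.mem_inf.2 ⟨RGDZ.inv_mul_mem c.nJ_maps h, ?_⟩)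
    have l1 : c.X m ≤ LJ c.X := le_sup_left
    have l2 : c.X 0 ≤ LJ c.X := le_sup_right
    exact mul_mem (inv_mem (nJ_mem_LJ c)) (mul_mem (mul_mem (l1 hx) (l2 ha)) (l1 hy))
  memI := c.r2.memI
  memJ := c.r2.memJ
  braid := braid_HH c

theorem X_le_GH (k : ZMod (2 * m)) : c.X k ≤ (r2H c).core.G := by
  have : NeZero (2 * m) := ⟨by have := c.one_le; omega⟩
  set C := (r2H c).core with hC
  have hXU : ∀ {k : ℕ}, 1 ≤ k → k ≤ m → c.X (k : ZMod (2 * m)) ≤ C.U := fun h1 h2 => (r2H c).X_le h1 h2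
  have pos : ∀ k : ℕ, 1 ≤ k → k ≤ m → c.X (k : ZMod (2 * m)) ≤ C.G := fun k h1 h2 =>
    (hXU h1 h2).trans (C.U_le.trans C.D_le)
  have nIm : c.nI ∈ C.G := C.nI_mem
  have nJm : c.nJ ∈ C.G := C.nJ_mem
  have altG : ∀ r, alt c.nI c.nJ r ∈ C.G ∧ alt c.nJ c.nI r ∈ C.G := by
    intro r
    induction r with
    | zero => exact ⟨one_mem _, one_mem _⟩
    | succ r ih => exact ⟨mul_mem nIm ih.2, mul_mem nJm ih.1⟩
  have key : ∀ k l : ZMod (2 * m), c.X k ≤ C.G →
      ∀ (w : Y) (f : ZMod (2 * m) → ZMod (2 * m)), w ∈ C.G → Maps c.X w f → f l = k →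
      c.X l ≤ C.G := by
    intro k l hk w f hw hf e x hx
    have h1 := (hf l x).2 hx
    rw [e] at h1
    have h2 := mul_mem (mul_mem (inv_mem hw) (hk h1)) hw
    have e2 : w⁻¹ * (w * x * w⁻¹) * w = x := by group
    rwa [e2] at h2
  obtain ⟨k, hk, rfl⟩ : ∃ r : ℕ, r < 2 * m ∧ (r : ZMod (2 * m)) = k :=
    ⟨k.val, ZMod.val_lt k, ZMod.natCast_zmod_val k⟩
  have h2 : (2 : ZMod (2 * m)) * m = 0 := RGDZ.two_m
  rcases Nat.eq_zero_or_pos k with rfl | h0
  · intro x hx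
    have hx' : x ∈ c.X 0 := by simpa using hx
    exact C.AJ'_le hx'
  rcases Nat.lt_or_ge m k with hmk | hmk
  · -- negative root
    obtain ⟨hI, hJ⟩ := c.alt_maps m
    by_cases h : Even m
    · simp only [h, if_true] at hI hJ
      refine key ((k - m : ℕ) : ZMod (2 * m)) k (pos _ (by omega) (by omega)) _ _ (altG m).2 hJ ?_
      rw [Nat.cast_sub hmk.le]
    · simp only [h, if_false] at hI hJ
      refine key ((2 * m + 1 - k : ℕ) : ZMod (2 * m)) k (pos _ (by omega) (by omega)) _ _ (altG m).1 hI ?_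
      rw [Nat.cast_sub (by omega)]
      push_cast
      ring
  · exact pos k h0 hmk

/-- `U T`. -/
theorem conj_U {g : Y} (hg : g ∈ c.U ⊔ torus c.X) : ∀ u ∈ c.U, g * u * g⁻¹ ∈ c.U := by
  have h1 : c.U ⊔ torus c.X ≤ Subgroup.normalizer (c.U : Set Y) := by
    refine sup_le Subgroup.le_normalizer ?_
    intro h hh
    rw [Subgroup.mem_normalizer_iff]
    intro u
    refine ⟨fun hu => c.core.HU h hh u hu, fun hu => ?_⟩
    have h1 := c.core.HU h⁻¹ (inv_mem hh) _ hu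
    have e : h⁻¹ * (h * u * h⁻¹) * h⁻¹⁻¹ = u := by group
    rwa [e] at h1
  intro u hu
  exact ((Subgroup.mem_normalizer_iff.1 (h1 hg)) u).1 hu

/-- **The torus is the product of the tori of the rank one subgroups.** -/
theorem torus_le (hgen : (⨆ k, c.X k) = ⊤) {p : ℕ} (hU : IsPGroup p c.U) (hI : ¬ IsPGroup p ↥(LI c.X))
    (hJ : ¬ IsPGroup p ↥(LJ c.X)) (hT : torus c.X ⊓ c.U = ⊥) : torus c.X ≤ HH c := by
  intro t ht
  set C := (r2H c).core with hC
  have hG : t ∈ C.G := by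
    have h1 : (⊤ : Subgroup Y) ≤ C.G := by
      rw [← hgen]
      exact iSup_le fun k => X_le_GH c k
    exact h1 (Subgroup.mem_top t)
  have hCU : C.U = c.U := rfl
  have hCH : C.H = HH c := rfl
  have hone : c.X ((1 : ℕ) : ZMod (2 * m)) = c.X 1 := by rw [Nat.cast_one]
  have hX1 : c.X 1 ≤ c.U := by
    have h1 := c.X_le_U le_rfl c.one_le
    rwa [hone] at h1
  have hXm : c.X m ≤ c.U := c.X_le_U c.one_le le_rfl
  obtain ⟨b, hb, w, hw, b', hb', e⟩ := C.bruhat c.one_le hG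
  have hDS : C.D ≤ c.U ⊔ torus c.X := sup_le le_sup_left ((HH_le c).trans le_sup_right)
  have hnI : C.nI ∉ c.U ⊔ torus c.X := by
    intro hn
    apply hI
    refine hU.to_le (sup_le hX1 ?_)
    intro x hx
    have h1 : c.nI⁻¹ * x * c.nI ∈ c.X 1 := by
      have h2 := (c.nI_maps 1 (c.nI⁻¹ * x * c.nI)).1
      have e1 : c.nI * (c.nI⁻¹ * x * c.nI) * c.nI⁻¹ = x := by group
      have e2 : (m : ZMod (2 * m)) + 2 - 1 = m + 1 := by ring
      beta_reduce at h2
      rw [e1, e2] at h2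
      exact h2 hx
    have h3 := conj_U c hn _ (hX1 h1)
    have e1 : C.nI * (c.nI⁻¹ * x * c.nI) * C.nI⁻¹ = x := by
      show c.nI * (c.nI⁻¹ * x * c.nI) * c.nI⁻¹ = x
      group
    rwa [e1] at h3
  have hnJ : C.nJ ∉ c.U ⊔ torus c.X := by
    intro hn
    apply hJ
    refine hU.to_le (sup_le hXm ?_)
    intro x hx
    have h1 : c.nJ⁻¹ * x * c.nJ ∈ c.X m := by
      have h2 := (c.nJ_maps m (c.nJ⁻¹ * x * c.nJ)).1
      have e1 : c.nJ * (c.nJ⁻¹ * x * c.nJ) * c.nJ⁻¹ = x := by group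
      beta_reduce at h2
      rw [e1, sub_self] at h2
      exact h2 hx
    have h3 := conj_U c hn _ (hXm h1)
    have e1 : C.nJ * (c.nJ⁻¹ * x * c.nJ) * C.nJ⁻¹ = x := by
      show c.nJ * (c.nJ⁻¹ * x * c.nJ) * c.nJ⁻¹ = x
      group
    rwa [e1] at h3
  have hwS : w ∈ c.U ⊔ torus c.X := by
    have e1 : w = b⁻¹ * t * b'⁻¹ := by rw [e]; group
    rw [e1]
    exact mul_mem (mul_mem (inv_mem (hDS hb)) ((le_sup_right : torus c.X ≤ _) ht)) (inv_mem (hDS hb'))
  have hwH : w ∈ C.H := Core.IsW.mem_H C hDS hnI hnJ hw hwS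
  have htD : t ∈ C.D := by
    rw [e]
    exact mul_mem (mul_mem hb (C.H_le hwH)) hb'
  obtain ⟨x, hx, h, hh, rfl⟩ := C.mem_D.1 htD
  have h1 : x ∈ torus c.X ⊓ c.U := by
    refine Subgroup.mem_inf.2 ⟨?_, hx⟩
    have e1 : x = (x * h) * h⁻¹ := by group
    rw [e1]
    exact mul_mem ht (inv_mem (HH_le c hh))
  rw [hT, Subgroup.mem_bot] at h1
  rw [h1, one_mul]
  exact hh

/-- The order of the torus. -/
theorem card_torus_le [Finite Y] (hgen : (⨆ k, c.X k) = ⊤) {p : ℕ} (hU : IsPGroup p c.U)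
    (hI : ¬ IsPGroup p ↥(LI c.X)) (hJ : ¬ IsPGroup p ↥(LJ c.X)) (hT : torus c.X ⊓ c.U = ⊥) :
    Nat.card ↥(torus c.X) ≤ Nat.card ↥(TI c) * Nat.card ↥(TJ c) := by
  have h1 : ∀ t ∈ HH c, ∃ a ∈ TI c, ∃ b ∈ TJ c, a * b = t := by
    have hn : TJ c ≤ Subgroup.normalizer (TI c : Set Y) := by
      intro t ht
      have hc : ∀ t ∈ torus c.X, ∀ x ∈ TI c, t * x * t⁻¹ ∈ TI c := fun t ht x hx =>
        Subgroup.mem_inf.2 ⟨mul_mem (mul_mem ht hx.1) (inv_mem ht), conj_LI c ht _ hx.2⟩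
      rw [Subgroup.mem_normalizer_iff]
      intro x
      refine ⟨fun hx => hc t ht.1 x hx, fun hx => ?_⟩
      have h1 := hc t⁻¹ (inv_mem ht.1) _ hx
      have e : t⁻¹ * (t * x * t⁻¹) * t⁻¹⁻¹ = x := by group
      rwa [e] at h1
    intro t ht
    have h2 : (t : Y) ∈ ((TI c ⊔ TJ c : Subgroup Y) : Set Y) := ht
    rw [Subgroup.coe_mul_of_right_le_normalizer_left _ _ hn] at h2
    exact Set.mem_mul.1 h2
  have h2 := torus_le c hgen hU hI hJ hT
  have h3 : Nat.card (↥(TI c) × ↥(TJ c)) = Nat.card ↥(TI c) * Nat.card ↥(TJ c) := Nat.card_prod _ _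
  rw [← h3]
  choose! f hf g hg hfg using fun t (ht : t ∈ torus c.X) => h1 t (h2 ht)
  refine Nat.card_le_card_of_injective
    (fun t : torus c.X => ((⟨f t, hf t t.2⟩, ⟨g t, hg t t.2⟩) : ↥(TI c) × ↥(TJ c))) ?_
  intro s t hst
  have e1 : f s = f t := congrArg (fun z => (z.1 : Y)) hst
  have e2 : g s = g t := congrArg (fun z => (z.2 : Y)) hst
  apply Subtype.ext
  rw [← hfg s s.2, ← hfg t t.2, e1, e2]

end torus

section lift

variable {L : Type u} {G : Type*} [Group L] [Finite L] [Group G] {π : L →* G} {p : ℕ} [Fact p.Prime]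

theorem maps_lft (hf : π.ker ≤ Subgroup.center L) {X : ZMod (2 * m) → Subgroup G} (hX : ∀ k, IsPGroup p (X k))
    {w : L} {f : ZMod (2 * m) → ZMod (2 * m)} (hw : Maps X (π w) f) : Maps (fun k => lft p π (X k)) w f := by
  intro k x
  rw [mem_lft hf (hX _), mem_lft hf (hX _), map_mul, map_mul, map_inv, hw k]
  refine and_congr_right fun _ => exists_congr fun n => ?_
  rw [conj_pow]
  constructor
  · intro h
    have h1 : x ^ p ^ n = w⁻¹ * (w * x ^ p ^ n * w⁻¹) * w := by group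
    rw [h1, h]
    group
  · intro h
    rw [h]
    group

/-- The lift of a root datum. -/
noncomputable def liftZ (hf : π.ker ≤ Subgroup.center L) (hp : (Nat.card π.ker).Coprime p)
    (hs : Function.Surjective π) (c : RGDZ m G) (hX : ∀ k, IsPGroup p (c.X k)) (hU : IsPGroup p c.U) :
    RGDZ m L where
  X := fun k => lft p π (c.X k)
  one_le := c.one_le
  comm := by
    intro k l h1 hkl hl x hx y hy
    have hb : IsPGroup p ↥(⨆ r ∈ Set.Ioo k l, c.X ((r : ℕ) : ZMod (2 * m))) := by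
      refine hU.to_le (iSup₂_le fun r hr => c.X_le_U ?_ ?_)
      · exact h1.trans hr.1.le
      · exact hr.2.le.trans hl
    have e : (⨆ r ∈ Set.Ioo k l, lft p π (c.X ((r : ℕ) : ZMod (2 * m)))) =
        lft p π (⨆ r ∈ Set.Ioo k l, c.X ((r : ℕ) : ZMod (2 * m))) := by
      rw [iSup_subtype', iSup_subtype'] at *
      exact (lft_iSup hf hp hs _ hb).symm
    rw [e]
    have hx' : x ∈ lft p π c.U := lft_mono p π (c.X_le_U h1 (hkl.le.trans hl)) hx
    have hy' : y ∈ lft p π c.U := lft_mono p π (c.X_le_U (h1.trans hkl.le) hl) hy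
    have hc : ⁅x, y⁆ ∈ lft p π c.U := by
      rw [commutatorElement_def]
      exact mul_mem (mul_mem (mul_mem hx' hy') (inv_mem hx')) (inv_mem hy')
    obtain ⟨-, n, hn⟩ := (mem_lft hf hU).1 hc
    refine (mem_lft hf hb).2 ⟨?_, n, hn⟩
    rw [map_commutatorElement]
    exact c.comm k l h1 hkl hl _ ((mem_lft hf (hX _)).1 hx).1 _ ((mem_lft hf (hX _)).1 hy).1
  muI := by
    intro a ha h1
    have h2 : π a ≠ 1 := fun h0 => h1 (eq_one_of_mem_lft hf hp (hX _) ha h0)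
    obtain ⟨x, hx, y, hy, h⟩ := c.muI _ ((mem_lft hf (hX _)).1 ha).1 h2
    rw [← map_lft hf hp hs (hX 1)] at hx hy
    obtain ⟨x, hx, rfl⟩ := hx
    obtain ⟨y, hy, rfl⟩ := hy
    refine ⟨x, hx, y, hy, maps_lft hf hX ?_⟩
    rwa [map_mul, map_mul]
  muJ := by
    intro a ha h1
    have h2 : π a ≠ 1 := fun h0 => h1 (eq_one_of_mem_lft hf hp (hX _) ha h0)
    obtain ⟨x, hx, y, hy, h⟩ := c.muJ _ ((mem_lft hf (hX _)).1 ha).1 h2
    rw [← map_lft hf hp hs (hX m)] at hx hy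
    obtain ⟨x, hx, rfl⟩ := hx
    obtain ⟨y, hy, rfl⟩ := hy
    refine ⟨x, hx, y, hy, maps_lft hf hX ?_⟩
    rwa [map_mul, map_mul]
  neI := by
    intro h
    apply c.neI
    rw [← map_lft hf hp hs (hX _), h, Subgroup.map_bot]
  neJ := by
    intro h
    apply c.neJ
    rw [← map_lft hf hp hs (hX _), h, Subgroup.map_bot]

theorem liftZ_X (hf : π.ker ≤ Subgroup.center L) (hp : (Nat.card π.ker).Coprime p)
    (hs : Function.Surjective π) (c : RGDZ m G) (hX : ∀ k, IsPGroup p (c.X k)) (hU : IsPGroup p c.U)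
    (k : ZMod (2 * m)) : (liftZ hf hp hs c hX hU).X k = lft p π (c.X k) := rfl

theorem torus_liftZ (hf : π.ker ≤ Subgroup.center L) (hp : (Nat.card π.ker).Coprime p)
    (hs : Function.Surjective π) (c : RGDZ m G) (hX : ∀ k, IsPGroup p (c.X k)) (hU : IsPGroup p c.U) :
    torus (liftZ hf hp hs c hX hU).X = (torus c.X).comap π := by
  ext w
  rw [Subgroup.mem_comap, mem_torus, mem_torus]
  constructor
  · intro h k x
    have key : ∀ w : L, Maps (liftZ hf hp hs c hX hU).X w id → ∀ x ∈ c.X k, π w * x * (π w)⁻¹ ∈ c.X k := by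
      intro w h x hx
      rw [← map_lft hf hp hs (hX k)] at hx
      obtain ⟨y, hy, rfl⟩ := hx
      have h1 := (h k y).2 hy
      have h2 := ((mem_lft hf (hX k)).1 h1).1
      rwa [map_mul, map_mul, map_inv] at h2
    refine ⟨fun hx => ?_, fun hx => key w h x hx⟩
    have h1 : Maps (liftZ hf hp hs c hX hU).X w⁻¹ id := Maps.inv h (fun _ => rfl)
    have h2 := key w⁻¹ h1 _ hx
    rw [map_inv] at h2
    have e : (π w)⁻¹ * (π w * x * (π w)⁻¹) * (π w)⁻¹⁻¹ = x := by group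
    rwa [e] at h2
  · intro h
    exact maps_lft hf hX h

theorem U_liftZ (hf : π.ker ≤ Subgroup.center L) (hp : (Nat.card π.ker).Coprime p)
    (hs : Function.Surjective π) (c : RGDZ m G) (hX : ∀ k, IsPGroup p (c.X k)) (hU : IsPGroup p c.U) :
    (liftZ hf hp hs c hX hU).U ≤ lft p π c.U := by
  show (⨆ k ∈ Set.Icc 1 m, (liftZ hf hp hs c hX hU).X ((k : ℕ) : ZMod (2 * m))) ≤ _
  exact iSup₂_le fun k hk => lft_mono p π (c.X_le_U hk.1 hk.2)

end lift

section sup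

variable {L : Type} {G : Type*} [Group L] [Finite L] [Group G] {π : L →* G} {p r : ℕ} {c : L}

/-- The subgroup generated by the lifts of two `p`-groups does not contain `c`. -/
theorem sup_ker_eq (hpp : p.Prime) (hrp : r.Prime) (hne : r ≠ p) (hd : PCov r π c) {A B : Subgroup G}
    (hA : IsPGroup p A) (hB : IsPGroup p B) (hN : NoCE p r ↥(A ⊔ B)) {x : L}
    (hx : x ∈ lft p π A ⊔ lft p π B) (hπ : π x = 1) : x = 1 := by
  by_contra hx1
  haveI : Fact p.Prime := ⟨hpp⟩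
  haveI : Fact r.Prime := ⟨hrp⟩
  have hf := hd.ker_le
  have hp : (Nat.card π.ker).Coprime p := by
    rw [hd.card_ker hrp]
    exact (Nat.coprime_primes hrp hpp).2 hne
  set H : Subgroup L := lft p π A ⊔ lft p π B with hH
  have hmap : H.map π = A ⊔ B := by
    rw [hH, Subgroup.map_sup, map_lft hf hp hd.surj hA, map_lft hf hp hd.surj hB]
  have hmem : ∀ y : H, π y ∈ A ⊔ B := by
    intro y
    rw [← hmap]
    exact Subgroup.mem_map_of_mem π y.2
  let f : H →* ↥(A ⊔ B) := (π.comp H.subtype).codRestrict (A ⊔ B) hmem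
  have hfs : Function.Surjective f := by
    rintro ⟨y, hy⟩
    rw [← hmap] at hy
    obtain ⟨x, hx, hxy⟩ := hy
    exact ⟨⟨x, hx⟩, Subtype.ext hxy⟩
  have hxr : x ^ r = 1 := by
    obtain ⟨k, rfl⟩ := Subgroup.mem_zpowers_iff.1 ((hd.ker x).1 hπ)
    rw [← zpow_natCast, ← zpow_mul, mul_comm, zpow_mul, zpow_natCast, hd.pow, one_zpow]
  have hz : Subgroup.zpowers x = Subgroup.zpowers c := by
    have h1 : Subgroup.zpowers x ≤ Subgroup.zpowers c := by
      rw [Subgroup.zpowers_le]; exact (hd.ker x).1 hπ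
    refine Subgroup.eq_of_le_of_card_ge h1 ?_
    rw [Nat.card_zpowers, Nat.card_zpowers, hd.orderOf_c hrp, orderOf_eq_prime hxr hx1]
  have hgen : Subgroup.closure {x : H | ∃ k : ℕ, x ^ p ^ k = 1} = ⊤ := by
    set K := Subgroup.closure {x : H | ∃ k : ℕ, x ^ p ^ k = 1} with hK
    have h1 : ∀ P : Subgroup G, lft p π P ≤ H → lft p π P ≤ K.map H.subtype := by
      intro P hP
      conv_lhs => unfold lft
      rw [Subgroup.closure_le]
      rintro y ⟨hy, k, hk⟩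
      have hyH : y ∈ H := hP (Subgroup.subset_closure ⟨hy, k, hk⟩)
      exact ⟨⟨y, hyH⟩, Subgroup.subset_closure ⟨k, Subtype.ext hk⟩, rfl⟩
    have h2 : H ≤ K.map H.subtype := sup_le (h1 _ le_sup_left) (h1 _ le_sup_right)
    rw [eq_top_iff]
    intro x _
    obtain ⟨z, hz, hzx⟩ := h2 x.2
    have : z = x := Subtype.ext hzx
    rwa [← this]
  refine hN H f ⟨x, hx⟩ hfs (fun h0 => hx1 (congrArg Subtype.val h0)) (Subtype.ext hxr) (fun y => ?_)
    (fun y => ?_) hgen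
  · exact Subtype.ext (hd.comm_of_pi hπ y)
  · have h1 : f y = 1 ↔ π (y : L) = 1 := by
      rw [← Subtype.coe_inj]; rfl
    rw [h1, hd.ker, ← hz, Subgroup.mem_zpowers_iff, Subgroup.mem_zpowers_iff]
    refine exists_congr fun k => ?_
    rw [← Subtype.coe_inj]
    rfl

end sup

/-- Root datum of rank two whose rank one subgroups have no central extensions by groups of order `r`. -/
structure ZDatum {G : Type u} [Group G] (p r : ℕ) (c : RGDZ m G) : Prop where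
  gen : (⨆ k, c.X k) = ⊤
  prime : p.Prime
  prime' : r.Prime
  ne : r ≠ p
  pX : ∀ k, IsPGroup p (c.X k)
  pU : IsPGroup p c.U
  tcop : (Nat.card ↥(torus c.X)).Coprime p
  notI : ¬ IsPGroup p ↥(LI c.X)
  notJ : ¬ IsPGroup p ↥(LJ c.X)
  rkI : NoCE p r ↥(LI c.X)
  rkJ : NoCE p r ↥(LJ c.X)
  card_le : Nat.card ↥(TI c) * Nat.card ↥(TJ c) ≤ Nat.card ↥(torus c.X)

theorem ZDatum.noPCov {G : Type u} [Group G] {p r : ℕ} {c : RGDZ m G} (D : ZDatum p r c) : NoPCov r G := by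
  intro L _ _ π z hd
  haveI : Fact p.Prime := ⟨D.prime⟩
  have hf := hd.ker_le
  have hp : (Nat.card π.ker).Coprime p := by
    rw [hd.card_ker D.prime']
    exact (Nat.coprime_primes D.prime' D.prime).2 D.ne
  haveI : Finite G := Finite.of_surjective π hd.surj
  set c' := liftZ hf hp hd.surj c D.pX D.pU with hc'
  have hmap : (⨆ k, c'.X k).map π = ⊤ := by
    rw [← D.gen, Subgroup.map_iSup]
    exact iSup_congr fun k => map_lft hf hp hd.surj (D.pX k)
  have hgen : (⨆ k, c'.X k) = ⊤ := eq_top_of_perfect' hd hmap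
  have hU' : IsPGroup p c'.U := (isPGroup_lft hf D.pU).to_le (U_liftZ hf hp hd.surj c D.pX D.pU)
  have hT' : torus c'.X = (torus c.X).comap π := torus_liftZ hf hp hd.surj c D.pX D.pU
  have mapI : (LI c'.X).map π = LI c.X := by
    unfold LI
    rw [Subgroup.map_sup]
    exact congrArg₂ _ (map_lft hf hp hd.surj (D.pX _)) (map_lft hf hp hd.surj (D.pX _))
  have mapJ : (LJ c'.X).map π = LJ c.X := by
    unfold LJ
    rw [Subgroup.map_sup]
    exact congrArg₂ _ (map_lft hf hp hd.surj (D.pX _)) (map_lft hf hp hd.surj (D.pX _))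
  have hI' : ¬ IsPGroup p ↥(LI c'.X) := by
    intro h
    apply D.notI
    rw [← mapI]
    exact h.map π
  have hJ' : ¬ IsPGroup p ↥(LJ c'.X) := by
    intro h
    apply D.notJ
    rw [← mapJ]
    exact h.map π
  have hTU : torus c'.X ⊓ c'.U = ⊥ := by
    have h1 : (Nat.card ↥(torus c'.X)).Coprime p := by
      rw [hT']; exact coprime_comap hp D.tcop
    obtain ⟨k, hk⟩ := IsPGroup.iff_card.1 hU'
    refine disjoint_iff.1 (Subgroup.disjoint_of_coprime_natCard ?_)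
    rw [hk]
    exact Nat.Coprime.pow_right k h1
  have hle := card_torus_le c' hgen hU' hI' hJ' hTU
  have hcardI : Nat.card ↥(TI c') ≤ Nat.card ↥(TI c) := by
    have hmem : ∀ x : TI c', π x ∈ TI c := by
      intro x
      have h1 : (x : L) ∈ torus c'.X := x.2.1
      rw [hT'] at h1
      refine Subgroup.mem_inf.2 ⟨h1, ?_⟩
      rw [← mapI]
      exact Subgroup.mem_map_of_mem π x.2.2
    refine Nat.card_le_card_of_injective (fun x : TI c' => (⟨π x, hmem x⟩ : ↥(TI c))) ?_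
    intro x y hxy
    have h1 : π x = π y := congrArg Subtype.val hxy
    have h2 : π ((x : L)⁻¹ * y) = 1 := by rw [map_mul, map_inv, h1, inv_mul_cancel]
    have h3 : (x : L)⁻¹ * y = 1 :=
      sup_ker_eq D.prime D.prime' D.ne hd (D.pX _) (D.pX _) D.rkI
        (mul_mem (inv_mem x.2.2) y.2.2 : (x : L)⁻¹ * y ∈ LI c'.X) h2
    exact Subtype.ext (inv_mul_eq_one.1 h3)
  have hcardJ : Nat.card ↥(TJ c') ≤ Nat.card ↥(TJ c) := by
    have hmem : ∀ x : TJ c', π x ∈ TJ c := by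
      intro x
      have h1 : (x : L) ∈ torus c'.X := x.2.1
      rw [hT'] at h1
      refine Subgroup.mem_inf.2 ⟨h1, ?_⟩
      rw [← mapJ]
      exact Subgroup.mem_map_of_mem π x.2.2
    refine Nat.card_le_card_of_injective (fun x : TJ c' => (⟨π x, hmem x⟩ : ↥(TJ c))) ?_
    intro x y hxy
    have h1 : π x = π y := congrArg Subtype.val hxy
    have h2 : π ((x : L)⁻¹ * y) = 1 := by rw [map_mul, map_inv, h1, inv_mul_cancel]
    have h3 : (x : L)⁻¹ * y = 1 :=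
      sup_ker_eq D.prime D.prime' D.ne hd (D.pX _) (D.pX _) D.rkJ
        (mul_mem (inv_mem x.2.2) y.2.2 : (x : L)⁻¹ * y ∈ LJ c'.X) h2
    exact Subtype.ext (inv_mul_eq_one.1 h3)
  have hcard : Nat.card ↥(torus c'.X) ≤ Nat.card ↥(torus c.X) :=
    hle.trans ((Nat.mul_le_mul hcardI hcardJ).trans D.card_le)
  have hmemT : ∀ x : torus c'.X, π x ∈ torus c.X := by
    rintro ⟨x, h1⟩
    rw [hT'] at h1
    exact h1
  let ρ : torus c'.X → torus c.X := fun x => ⟨π x, hmemT x⟩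
  have hρ : Function.Surjective ρ := by
    rintro ⟨t, ht⟩
    obtain ⟨g, rfl⟩ := hd.surj t
    refine ⟨⟨g, ?_⟩, rfl⟩
    rw [hT']
    exact ht
  have hinj := (hρ.bijective_of_nat_card_le hcard).injective
  have hcT : z ∈ torus c'.X := by
    rw [hT', Subgroup.mem_comap, hd.pi_c]
    exact one_mem _
  have h1 : (⟨z, hcT⟩ : torus c'.X) = 1 := by
    apply hinj
    apply Subtype.ext
    show π z = π 1
    rw [hd.pi_c, map_one]
  exact hd.ne (congrArg Subtype.val h1)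

end Cfsg.Agent.H67.RankTwo
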