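import Mathlib
import Cfsg.Agent.H67.RankTwo
import Cfsg.Agent.H67.RankOneId
import Cfsg.Agent.KFacts.TwF4.Full
import Cfsg.Agent.KFacts.Mult.TwFFour

/-!
# The groups `²F₄(q)`: central extensions by groups of odd prime order

`noPCov_odd`: `²F₄(q)`, `q = 2 ^ (2 m + 1) > 2`, has no perfect central extension with kernel of odd prime order.
-/

set_option autoImplicit false
set_option linter.style.haveILetI false

namespace Cfsg.Agent.H67.TwFFourOdd

open Cfsg.Agent.H67.Cross Cfsg.Agent.H67.RankTwo Cfsg.Agent.H67.RankOneId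
open Cfsg.Agent.TitsThree.RankTwoZ Cfsg.Agent.SplitTwo Cfsg.Agent.SplitTwo.RootSysZ
open scoped commutatorElement

/-! ### Rank one subgroups of root data -/

section rgd

variable {m : ℕ} {Y : Type*} [Group Y]

/-- Opposite root groups intersect trivially. -/
theorem opp_inf (R : RootSys m Y) (i : ZMod (2 * m)) : R.X i ⊓ R.X (i + m) = ⊥ := by
  rw [eq_bot_iff]
  rintro u ⟨hu, hu'⟩
  by_contra h1
  have h1' : u ≠ 1 := h1
  obtain ⟨v, hv, v', hv', hn⟩ := R.mu i u hu h1'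
  have hm := R.two_lt
  have hz : v * u * v' ∈ R.X (i + m) := mul_mem (mul_mem hv hu') hv'
  have hle : R.X (i + m + 1) ≤ R.X (i - 1) := by
    intro x hx
    have h2 := R.comm (i + m) 1 le_rfl (by omega)
    have h3 : ⁅v * u * v', x⁆ ∈ (⊥ : Subgroup Y) := by
      have h4 : (⨆ r ∈ Set.Ioo 0 1, R.X (i + m + ((r : ℕ) : ZMod (2 * m)))) = ⊥ := by
        rw [eq_bot_iff]
        refine iSup₂_le fun r hr => ?_
        exact absurd hr.2 (by have := hr.1; omega)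
      rw [h4] at h2
      refine h2 (Subgroup.commutator_mem_commutator hz ?_)
      rwa [Nat.cast_one]
    rw [Subgroup.mem_bot, commutatorElement_eq_one_iff_mul_comm] at h3
    have h5 := (hn (i + m + 1) x).2 hx
    rw [h3, mul_inv_cancel_right] at h5
    have e : 2 * i + (m : ZMod (2 * m)) - (i + m + 1) = i - 1 := by ring
    rwa [e] at h5
  have h2 := R.inter (i + m + 1)
  apply R.ne_bot (i + m + 1)
  rw [← h2]
  symm
  rw [inf_eq_left]
  refine hle.trans ?_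
  have e : i - 1 = i + m + 1 + ((m - 2 : ℕ) : ZMod (2 * m)) := by
    rw [Nat.cast_sub (by omega)]
    have := two_m' (m := m)
    push_cast
    linear_combination -this
  rw [e]
  exact le_iSup₂_of_le (f := fun (r : ℕ) (_ : r ∈ Set.Ioo 0 m) => R.X (i + m + 1 + ((r : ℕ) : ZMod (2 * m))))
    (m - 2) ⟨by omega, by omega⟩ le_rfl

/-- The rank one subgroup `⟨X i, X j⟩`, `j` opposite to `i`. -/
theorem rkOne_of [Finite Y] (X : ZMod (2 * m) → Subgroup Y) {i j e : ZMod (2 * m)} (hij : e - i = j)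
    {L : Subgroup Y} (hi : X i ≤ L) (hL : L ≤ X i ⊔ X j)
    (mu : ∀ a ∈ X j, a ≠ 1 → ∃ x ∈ X i, ∃ y ∈ X i, Maps X (x * a * y) (fun k => e - k))
    {n : Y} (hn : n ∈ L) (hsq : n * n = 1) (hm : Maps X n (fun k => e - k)) (hp : IsPGroup 2 (X i))
    (hT : Odd (Nat.card ↥(torus X))) (hint : X i ⊓ X j = ⊥)
    (hinv : ∃ x ∈ X i, ∃ y ∈ X i, x ≠ 1 ∧ y ≠ 1 ∧ x ≠ y ∧ x * x = 1 ∧ y * y = 1 ∧ x * y = y * x) :
    RkOne ((X i).subgroupOf L) ((torus X).subgroupOf L) (⟨n, hn⟩ : L) where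
  w_sq := Subtype.ext hsq
  pA := hp.comap_of_injective L.subtype L.subtype_injective
  T_odd := by
    have h1 : Nat.card ↥((torus X).subgroupOf L) ∣ Nat.card ↥(torus X) := by
      have h2 : ((torus X).subgroupOf L).map L.subtype ≤ torus X := by
        rintro _ ⟨x, hx, rfl⟩
        exact hx
      rw [← Subgroup.card_map_of_injective L.subtype_injective]
      exact Subgroup.card_dvd_of_le h2
    exact hT.of_dvd_nat h1
  T_norm := fun t ht a ha => (ht _ _).2 ha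
  T_w := by
    intro t ht
    have h1 := RGDZ.conj_mem hm ht
    have h2 : n⁻¹ = n := inv_eq_of_mul_eq_one_right hsq
    rw [h2] at h1
    exact h1
  inter := by
    intro a ha hwa
    have h2 : n⁻¹ = n := inv_eq_of_mul_eq_one_right hsq
    have h5 := (hm i a).2 ha
    have h6 : (n * a * n : Y) ∈ X j := by
      beta_reduce at h5
      rw [hij, h2] at h5
      exact h5
    have h7 : (n * a * n : Y) ∈ X i ⊓ X j := ⟨hwa, h6⟩
    rw [hint, Subgroup.mem_bot] at h7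
    apply Subtype.ext
    show (a : Y) = 1
    have e1 : (a : Y) = n⁻¹ * (n * a * n) * n⁻¹ := by group
    rw [e1, h7, mul_one, h2, hsq]
  rk := by
    intro a ha h1
    have h2 : n⁻¹ = n := inv_eq_of_mul_eq_one_right hsq
    have h5 := (hm i a).2 ha
    have h6 : (n * a * n : Y) ∈ X j := by
      beta_reduce at h5
      rw [hij, h2] at h5
      exact h5
    have h7 : (n * a * n : Y) ≠ 1 := by
      intro h
      apply h1
      apply Subtype.ext
      show (a : Y) = 1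
      have e1 : (a : Y) = n⁻¹ * (n * a * n) * n⁻¹ := by group
      rw [e1, h, mul_one, h2, hsq]
    obtain ⟨x, hx, y, hy, h⟩ := mu _ h6 h7
    have ht := RGDZ.inv_mul_mem hm h
    have haL : (n * a * n : Y) ∈ L := mul_mem (mul_mem hn a.2) hn
    have htL : n⁻¹ * (x * (n * a * n) * y) ∈ L :=
      mul_mem (inv_mem hn) (mul_mem (mul_mem (hi hx) haL) (hi hy))
    refine ⟨⟨x⁻¹, inv_mem (hi hx)⟩, inv_mem hx, ⟨_, htL⟩, ht, ⟨y⁻¹, inv_mem (hi hy)⟩, inv_mem hy, ?_⟩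
    apply Subtype.ext
    show n * a * n = x⁻¹ * n * (n⁻¹ * (x * (n * a * n) * y)) * y⁻¹
    group
  gen := by
    intro K h1 h2
    rw [eq_top_iff]
    have h3 : X i ⊔ X j ≤ K.map L.subtype := by
      refine sup_le ?_ ?_
      · intro x hx
        exact ⟨⟨x, hi hx⟩, h1 hx, rfl⟩
      · intro x hx
        have h2' : n⁻¹ = n := inv_eq_of_mul_eq_one_right hsq
        have h4 : n * x * n ∈ X i := by
          have h5 := (hm i (n * x * n)).1
          have e1 : n * (n * x * n) * n⁻¹ = x := by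
            rw [h2']
            calc n * (n * x * n) * n = (n * n) * x * (n * n) := by group
              _ = x := by rw [hsq]; group
          beta_reduce at h5
          rw [e1, hij] at h5
          exact h5 hx
        have h5 := h2 ⟨n * x * n, hi h4⟩ h4
        refine ⟨_, h5, ?_⟩
        show n * (n * x * n) * n = x
        calc n * (n * x * n) * n = (n * n) * x * (n * n) := by group
          _ = x := by rw [hsq]; group
    intro x _
    obtain ⟨y, hy, hyx⟩ := h3 (hL x.2)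
    have : y = x := Subtype.ext hyx
    rwa [← this]
  inv := by
    obtain ⟨x, hx, y, hy, h1, h2, h3, h4, h5, h6⟩ := hinv
    refine ⟨⟨x, hi hx⟩, hx, ⟨y, hi hy⟩, hy, fun h => h1 (congrArg Subtype.val h),
      fun h => h2 (congrArg Subtype.val h), fun h => h3 (congrArg Subtype.val h), Subtype.ext h4, Subtype.ext h5,
      Subtype.ext h6⟩

theorem card_subgroupOf_eq {H L : Subgroup Y} : Nat.card ↥(H.subgroupOf L) = Nat.card ↥(H ⊓ L) := by
  refine Nat.card_congr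
    { toFun := fun x => ⟨x.1, x.2, x.1.2⟩
      invFun := fun x => ⟨⟨x.1, x.2.2⟩, x.2.1⟩
      left_inv := fun _ => rfl
      right_inv := fun _ => rfl }

theorem ninv_subgroupOf {H L : Subgroup Y} (h : H ≤ L) : RkOne.ninv (H.subgroupOf L) = RkOne.ninv H := by
  refine Nat.card_congr
    { toFun := fun x => ⟨x.1, x.2.1, fun h1 => x.2.2.1 (Subtype.ext h1), congrArg Subtype.val x.2.2.2⟩
      invFun := fun x => ⟨⟨x.1, h x.2.1⟩, x.2.1, fun h1 => x.2.2.1 (congrArg Subtype.val h1), Subtype.ext x.2.2.2⟩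
      left_inv := fun _ => rfl
      right_inv := fun _ => rfl }

end rgd

/-! ### Coordinates -/

section full

open Cfsg.Agent.KFacts.TwF4

theorem od_sub : ∀ a : ZMod 8, od (4 - a) = (8 : ℕ) + 2 - od a := by decide
theorem ev_sub : ∀ a : ZMod 8, ev (5 - a) = (8 : ℕ) + 2 - ev a := by decide
theorem od_sub' : ∀ a : ZMod 8, od (3 - a) = (8 : ℕ) - od a := by decide
theorem ev_sub' : ∀ a : ZMod 8, ev (4 - a) = (8 : ℕ) - ev a := by decide

variable {F : Type*} [Field F] {σ : F →+* F} {G : Type*} [Group G] (S : Full σ G)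

theorem n1_inv : S.n1⁻¹ = S.n1 := inv_eq_of_mul_eq_one_right S.n1_sq
theorem n2_inv : S.n2⁻¹ = S.n2 := inv_eq_of_mul_eq_one_right S.n2_sq

theorem maps_n1 : Maps S.R.X S.n1 (fun k => (8 : ℕ) + 2 - k) := by
  have hodd : ∀ a g, g ∈ S.R.X (od a) → S.n1 * g * S.n1⁻¹ ∈ S.R.X (od (4 - a)) := by
    intro a g hg
    obtain ⟨t, rfl⟩ := (S.mem_odd a g).1 hg
    exact (S.mem_odd _ _).2 ⟨t, (S.n1_o a t).symm⟩
  have heven : ∀ a g, g ∈ S.R.X (ev a) → S.n1 * g * S.n1⁻¹ ∈ S.R.X (ev (5 - a)) := by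
    intro a g hg
    obtain ⟨p, u, rfl⟩ := (S.mem_even a g).1 hg
    exact (S.mem_even _ _).2 ⟨p, u, (S.n1_e a p u).symm⟩
  have e : ∀ g : G, S.n1 * (S.n1 * g * S.n1⁻¹) * S.n1⁻¹ = g := by
    intro g
    rw [n1_inv]
    calc S.n1 * (S.n1 * g * S.n1) * S.n1 = (S.n1 * S.n1) * g * (S.n1 * S.n1) := by group
      _ = g := by rw [S.n1_sq]; group
  intro k x
  rcases od_or_ev k with ⟨a, rfl⟩ | ⟨a, rfl⟩
  · have h1 : (8 : ℕ) + 2 - od a = od (4 - a) := (od_sub a).symm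
    show _ ∈ S.R.X ((8 : ℕ) + 2 - od a) ↔ _
    rw [h1]
    refine ⟨fun h => ?_, fun h => hodd a x h⟩
    have h2 := hodd _ _ h
    rwa [e, sub_sub_cancel] at h2
  · have h1 : (8 : ℕ) + 2 - ev a = ev (5 - a) := (ev_sub a).symm
    show _ ∈ S.R.X ((8 : ℕ) + 2 - ev a) ↔ _
    rw [h1]
    refine ⟨fun h => ?_, fun h => heven a x h⟩
    have h2 := heven _ _ h
    rwa [e, sub_sub_cancel] at h2

theorem maps_n2 : Maps S.R.X S.n2 (fun k => (8 : ℕ) - k) := by
  have hodd : ∀ a g, g ∈ S.R.X (od a) → S.n2 * g * S.n2⁻¹ ∈ S.R.X (od (3 - a)) := by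
    intro a g hg
    obtain ⟨t, rfl⟩ := (S.mem_odd a g).1 hg
    exact (S.mem_odd _ _).2 ⟨t, (S.n2_o a t).symm⟩
  have heven : ∀ a g, g ∈ S.R.X (ev a) → S.n2 * g * S.n2⁻¹ ∈ S.R.X (ev (4 - a)) := by
    intro a g hg
    obtain ⟨p, u, rfl⟩ := (S.mem_even a g).1 hg
    exact (S.mem_even _ _).2 ⟨p, u, (S.n2_e a p u).symm⟩
  have e : ∀ g : G, S.n2 * (S.n2 * g * S.n2⁻¹) * S.n2⁻¹ = g := by
    intro g
    rw [n2_inv]
    calc S.n2 * (S.n2 * g * S.n2) * S.n2 = (S.n2 * S.n2) * g * (S.n2 * S.n2) := by group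
      _ = g := by rw [S.n2_sq]; group
  intro k x
  rcases od_or_ev k with ⟨a, rfl⟩ | ⟨a, rfl⟩
  · have h1 : (8 : ℕ) - od a = od (3 - a) := (od_sub' a).symm
    show _ ∈ S.R.X ((8 : ℕ) - od a) ↔ _
    rw [h1]
    refine ⟨fun h => ?_, fun h => hodd a x h⟩
    have h2 := hodd _ _ h
    rwa [e, sub_sub_cancel] at h2
  · have h1 : (8 : ℕ) - ev a = ev (4 - a) := (ev_sub' a).symm
    show _ ∈ S.R.X ((8 : ℕ) - ev a) ↔ _
    rw [h1]
    refine ⟨fun h => ?_, fun h => heven a x h⟩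
    have h2 := heven _ _ h
    rwa [e, sub_sub_cancel] at h2

/-- the root datum -/
noncomputable abbrev cc : RGDZ 8 G := rgdz S.R

theorem memX1 {g : G} : g ∈ (cc S).X 1 ↔ ∃ t, S.o 0 t = g := S.mem_odd 0 g
theorem memX9 {g : G} : g ∈ (cc S).X ((8 : ℕ) + 1) ↔ ∃ t, S.o 4 t = g := S.mem_odd 4 g
theorem memX8 {g : G} : g ∈ (cc S).X (8 : ℕ) ↔ ∃ p u, S.e 4 p u = g := S.mem_even 4 g
theorem memX0 {g : G} : g ∈ (cc S).X 0 ↔ ∃ p u, S.e 0 p u = g := S.mem_even 0 g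

theorem n1_mem : S.n1 ∈ LI (cc S).X := by
  rw [S.n1_word]
  have l1 : (cc S).X 1 ≤ LI (cc S).X := le_sup_left
  have l2 : (cc S).X ((8 : ℕ) + 1) ≤ LI (cc S).X := le_sup_right
  exact mul_mem (mul_mem (l1 ((memX1 S).2 ⟨_, rfl⟩)) (l2 ((memX9 S).2 ⟨_, rfl⟩))) (l1 ((memX1 S).2 ⟨_, rfl⟩))

theorem n2_mem : S.n2 ∈ LJ (cc S).X := by
  rw [S.n2_word]
  have l1 : (cc S).X (8 : ℕ) ≤ LJ (cc S).X := le_sup_left
  have l2 : (cc S).X 0 ≤ LJ (cc S).X := le_sup_right
  exact mul_mem (mul_mem (l1 ((memX8 S).2 ⟨_, _, rfl⟩)) (l2 ((memX0 S).2 ⟨_, _, rfl⟩)))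
    (l1 ((memX8 S).2 ⟨_, _, rfl⟩))

theorem o_zero (a : ZMod 8) : S.o a 0 = 1 := by
  have h := S.o_add a 0 0
  rw [add_zero] at h
  exact mul_eq_left.1 h

theorem e_zero (a : ZMod 8) : S.e a 0 0 = 1 := by
  have h := S.e_mul a 0 0 0 0
  simp only [add_zero, zero_mul] at h
  exact mul_eq_left.1 h

include S in
theorem add_self (x : F) : x + x = 0 := by
  have h := S.two
  rw [← two_mul, h, zero_mul]

theorem card_torus [Finite F] : Nat.card ↥(torus (cc S).X) = (Nat.card F - 1) ^ 2 := by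
  classical
  have : Fintype F := Fintype.ofFinite F
  have h1 : Nat.card (Fˣ × Fˣ) = (Nat.card F - 1) ^ 2 := by
    rw [Nat.card_prod, Nat.card_units, pow_two]
  rw [← h1]
  symm
  refine Nat.card_congr (Equiv.ofBijective
    (fun x : Fˣ × Fˣ => (⟨S.h x.1 x.2, (S.mem_torus _).2 ⟨_, _, rfl⟩⟩ : ↥(torus (cc S).X))) ⟨?_, ?_⟩)
  · rintro ⟨c, d⟩ ⟨c', d'⟩ h
    obtain ⟨h2, h3⟩ := S.h_inj c d c' d' (congrArg Subtype.val h)
    exact Prod.ext h2 h3
  · rintro ⟨g, hg⟩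
    obtain ⟨c, d, e⟩ := (S.mem_torus g).1 hg
    exact ⟨(c, d), Subtype.ext e⟩

theorem card_X1 : Nat.card ↥((cc S).X 1) = Nat.card F := by
  symm
  refine Nat.card_congr (Equiv.ofBijective
    (fun t : F => (⟨S.o 0 t, (memX1 S).2 ⟨_, rfl⟩⟩ : ↥((cc S).X 1))) ⟨?_, ?_⟩)
  · intro s t h
    exact S.injO 0 (congrArg Subtype.val h)
  · rintro ⟨g, hg⟩
    obtain ⟨t, e⟩ := (memX1 S).1 hg
    exact ⟨t, Subtype.ext e⟩

theorem card_X8 : Nat.card ↥((cc S).X (8 : ℕ)) = Nat.card F ^ 2 := by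
  have h1 : Nat.card (F × F) = Nat.card F ^ 2 := by rw [Nat.card_prod, pow_two]
  rw [← h1]
  symm
  refine Nat.card_congr (Equiv.ofBijective
    (fun x : F × F => (⟨S.e 4 x.1 x.2, (memX8 S).2 ⟨_, _, rfl⟩⟩ : ↥((cc S).X (8 : ℕ)))) ⟨?_, ?_⟩)
  · rintro ⟨p, u⟩ ⟨q, v⟩ h
    obtain ⟨h2, h3⟩ := S.injE 4 p u q v (congrArg Subtype.val h)
    exact Prod.ext h2 h3
  · rintro ⟨g, hg⟩
    obtain ⟨p, u, e⟩ := (memX8 S).1 hg
    exact ⟨(p, u), Subtype.ext e⟩

theorem ninv_X1 [Finite F] : RkOne.ninv ((cc S).X 1) + 1 = Nat.card F := by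
  classical
  have h1 : RkOne.ninv ((cc S).X 1) = Nat.card Fˣ := by
    symm
    refine Nat.card_congr (Equiv.ofBijective
      (fun t : Fˣ => (⟨S.o 0 t, (memX1 S).2 ⟨_, rfl⟩, fun h => t.ne_zero (S.injO 0 (by rw [h, o_zero])), by
        rw [S.o_add, add_self S, o_zero]⟩ : {x : G // x ∈ (cc S).X 1 ∧ x ≠ 1 ∧ x * x = 1})) ⟨?_, ?_⟩)
    · intro s t h
      exact Units.ext (S.injO 0 (congrArg Subtype.val h))
    · rintro ⟨g, hg, h1, -⟩
      obtain ⟨t, e⟩ := (memX1 S).1 hg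
      have ht : t ≠ 0 := by
        rintro rfl
        exact h1 (by rw [← e, o_zero])
      exact ⟨Units.mk0 t ht, Subtype.ext e⟩
  have h2 : 0 < Nat.card F := Nat.card_pos
  rw [h1, Nat.card_units]
  omega

theorem ninv_X8 [Finite F] : RkOne.ninv ((cc S).X (8 : ℕ)) + 1 = Nat.card F := by
  classical
  have h1 : RkOne.ninv ((cc S).X (8 : ℕ)) = Nat.card Fˣ := by
    symm
    refine Nat.card_congr (Equiv.ofBijective
      (fun t : Fˣ => (⟨S.e 4 0 t, (memX8 S).2 ⟨_, _, rfl⟩,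
        fun h => t.ne_zero ((S.injE 4 _ _ _ _ (h.trans (e_zero S 4).symm)).2), by
        rw [S.e_mul, zero_mul, add_zero, add_zero, add_self S, e_zero]⟩ :
        {x : G // x ∈ (cc S).X (8 : ℕ) ∧ x ≠ 1 ∧ x * x = 1})) ⟨?_, ?_⟩)
    · intro s t h
      exact Units.ext (S.injE 4 _ _ _ _ (congrArg Subtype.val h)).2
    · rintro ⟨g, hg, h1, h2⟩
      obtain ⟨p, u, e⟩ := (memX8 S).1 hg
      have h3 := h2
      rw [← e, S.e_mul, ← e_zero S 4] at h3
      have h4 := (S.injE 4 _ _ _ _ h3).2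
      rw [add_self S, zero_add] at h4
      have hp : p = 0 := by
        rcases mul_eq_zero.1 h4 with h5 | h5
        · exact h5
        · exact (map_eq_zero σ).1 h5
      subst hp
      have hu : u ≠ 0 := by
        rintro rfl
        exact h1 (by rw [← e, e_zero])
      exact ⟨Units.mk0 u hu, Subtype.ext e⟩
  have h2 : 0 < Nat.card F := Nat.card_pos
  rw [h1, Nat.card_units]
  omega

theorem p_eq_two : S.R.p = 2 := by
  have h1 : S.o 0 1 ∈ S.R.X (od 0) := (S.mem_odd 0 _).2 ⟨1, rfl⟩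
  obtain ⟨k, hk⟩ := S.R.isPGroup (od 0) ⟨_, h1⟩
  have h2 : S.o 0 1 ^ S.R.p ^ k = 1 := congrArg Subtype.val hk
  have h3 : S.o 0 1 * S.o 0 1 = 1 := by rw [S.o_add, add_self S, o_zero]
  have h4 : S.o 0 1 ≠ 1 := fun h => one_ne_zero (S.injO 0 (h.trans (o_zero S 0).symm))
  have h5 : orderOf (S.o 0 1) = 2 := orderOf_eq_prime (by rw [pow_two, h3]) h4
  have h6 := orderOf_dvd_of_pow_eq_one h2
  rw [h5] at h6
  exact ((Nat.prime_dvd_prime_iff_eq Nat.prime_two S.R.prime).1 (Nat.prime_two.dvd_of_dvd_pow h6)).symm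

theorem pX (k : ZMod (2 * 8)) : IsPGroup 2 ((cc S).X k) := by
  have h1 := S.R.isPGroup k
  rwa [p_eq_two] at h1

/-- `F` has an element different from `0` and `1`. -/
theorem exists_ne [Finite F] (h : 4 ≤ Nat.card F) : ∃ x : F, x ≠ 0 ∧ x ≠ 1 := by
  classical
  have : Fintype F := Fintype.ofFinite F
  by_contra hcon
  push Not at hcon
  have h1 : (Finset.univ : Finset F) ⊆ {0, 1} := by
    intro x _
    by_cases hx : x = 0
    · simp [hx]
    · simp [hcon x hx]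
  have h2 := Finset.card_le_card h1
  rw [Finset.card_univ, ← Nat.card_eq_fintype_card] at h2
  have h3 : ({0, 1} : Finset F).card ≤ 2 := Finset.card_le_two
  omega

variable [Finite F] [Finite G]

/-- **The rank one subgroup `LI`.** -/
theorem rkI {k : ℕ} (hk : 2 ≤ k) (hF : Nat.card F = 2 ^ k) :
    (∀ r : ℕ, r.Prime → r ≠ 2 → NoCE 2 r ↥(LI (cc S).X)) ∧ Nat.card ↥(TI (cc S)) = 2 ^ k - 1 := by
  have h4 : 4 ≤ Nat.card F := by
    rw [hF]
    calc 4 = 2 ^ 2 := rfl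
      _ ≤ 2 ^ k := Nat.pow_le_pow_right (by norm_num) hk
  have hTo : Odd (Nat.card ↥(torus (cc S).X)) := by
    rw [card_torus, hF]
    exact (Nat.Even.sub_odd Nat.one_le_two_pow ((Nat.even_pow' (by omega)).mpr even_two) odd_one).pow
  have D := rkOne_of (cc S).X (i := 1) (j := (8 : ℕ) + 1) (e := (8 : ℕ) + 2) (by ring)
    (L := LI (cc S).X) le_sup_left le_rfl (cc S).muI (n1_mem S) S.n1_sq (maps_n1 S)
    (pX S 1) hTo (by
      have h1 := opp_inf S.R 1
      rw [add_comm] at h1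
      exact h1) (by
      obtain ⟨x, hx0, hx1⟩ := exists_ne h4
      refine ⟨_, (memX1 S).2 ⟨1, rfl⟩, _, (memX1 S).2 ⟨x, rfl⟩, ?_, ?_, ?_, ?_, ?_, ?_⟩
      · exact fun h => one_ne_zero (S.injO 0 (h.trans (o_zero S 0).symm))
      · exact fun h => hx0 (S.injO 0 (h.trans (o_zero S 0).symm))
      · exact fun h => hx1 (S.injO 0 h).symm
      · rw [S.o_add, add_self S, o_zero]
      · rw [S.o_add, add_self S, o_zero]
      · rw [S.o_add, S.o_add, add_comm])
  obtain ⟨h1, h2⟩ := D.main (k := k) (i := 1) hk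
    (by rw [ninv_subgroupOf (H := (cc S).X 1) (L := LI (cc S).X) le_sup_left, ninv_X1, hF])
    (by
      have h0 : (cc S).X 1 ⊓ LI (cc S).X = (cc S).X 1 := inf_eq_left.2 le_sup_left
      rw [card_subgroupOf_eq, h0, card_X1, hF, pow_one])
    (by norm_num)
  refine ⟨h1, ?_⟩
  rw [card_subgroupOf_eq] at h2
  exact h2

/-- **The rank one subgroup `LJ`.** -/
theorem rkJ {k : ℕ} (hk : 2 ≤ k) (hF : Nat.card F = 2 ^ k) :
    (∀ r : ℕ, r.Prime → r ≠ 2 → NoCE 2 r ↥(LJ (cc S).X)) ∧ Nat.card ↥(TJ (cc S)) = 2 ^ k - 1 := by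
  have h4 : 4 ≤ Nat.card F := by
    rw [hF]
    calc 4 = 2 ^ 2 := rfl
      _ ≤ 2 ^ k := Nat.pow_le_pow_right (by norm_num) hk
  have hTo : Odd (Nat.card ↥(torus (cc S).X)) := by
    rw [card_torus, hF]
    exact (Nat.Even.sub_odd Nat.one_le_two_pow ((Nat.even_pow' (by omega)).mpr even_two) odd_one).pow
  have D := rkOne_of (cc S).X (i := (8 : ℕ)) (j := 0) (e := (8 : ℕ)) (by ring)
    (L := LJ (cc S).X) le_sup_left le_rfl (cc S).muJ (n2_mem S) S.n2_sq (maps_n2 S)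
    (pX S (8 : ℕ)) hTo (by
      have h1 := opp_inf S.R 0
      rw [zero_add, inf_comm] at h1
      exact h1) (by
      obtain ⟨x, hx0, hx1⟩ := exists_ne h4
      refine ⟨_, (memX8 S).2 ⟨0, 1, rfl⟩, _, (memX8 S).2 ⟨0, x, rfl⟩, ?_, ?_, ?_, ?_, ?_, ?_⟩
      · exact fun h => one_ne_zero (S.injE 4 _ _ _ _ (h.trans (e_zero S 4).symm)).2
      · exact fun h => hx0 (S.injE 4 _ _ _ _ (h.trans (e_zero S 4).symm)).2
      · exact fun h => hx1 (S.injE 4 _ _ _ _ h).2.symm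
      · rw [S.e_mul, zero_mul, add_zero, add_zero, add_self S, e_zero]
      · rw [S.e_mul, zero_mul, add_zero, add_zero, add_self S, e_zero]
      · rw [S.e_mul, S.e_mul, zero_mul, add_comm 1 x])
  obtain ⟨h1, h2⟩ := D.main (k := k) (i := 2) hk
    (by rw [ninv_subgroupOf (H := (cc S).X (8 : ℕ)) (L := LJ (cc S).X) le_sup_left, ninv_X8, hF])
    (by
      have h0 : (cc S).X (8 : ℕ) ⊓ LJ (cc S).X = (cc S).X (8 : ℕ) := inf_eq_left.2 le_sup_left
      rw [card_subgroupOf_eq, h0, card_X8, hF])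
    (by norm_num)
  refine ⟨h1, ?_⟩
  rw [card_subgroupOf_eq] at h2
  exact h2

/-- **The datum.** -/
theorem zdatum {k : ℕ} (hk : 2 ≤ k) (hF : Nat.card F = 2 ^ k) (hU : IsPGroup 2 (cc S).U) {r : ℕ} (hr : r.Prime)
    (hr2 : r ≠ 2) : ZDatum 2 r (cc S) := by
  have h4 : 4 ≤ 2 ^ k := by
    calc 4 = 2 ^ 2 := rfl
      _ ≤ 2 ^ k := Nat.pow_le_pow_right (by norm_num) hk
  have hodd : Odd (2 ^ k - 1) := Nat.Even.sub_odd Nat.one_le_two_pow ((Nat.even_pow' (by omega)).mpr even_two) odd_one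
  obtain ⟨hI, hIc⟩ := rkI S hk hF
  obtain ⟨hJ, hJc⟩ := rkJ S hk hF
  have notP : ∀ L : Subgroup G, Nat.card ↥(torus (cc S).X ⊓ L) = 2 ^ k - 1 → ¬ IsPGroup 2 L := by
    intro L hc hp
    obtain ⟨n, hn⟩ := IsPGroup.iff_card.1 hp
    have h1 : Nat.card ↥(torus (cc S).X ⊓ L) ∣ Nat.card L := Subgroup.card_dvd_of_le inf_le_right
    rw [hc, hn] at h1
    have h2 : Nat.Coprime (2 ^ k - 1) (2 ^ n) := Nat.Coprime.pow_right n (Nat.coprime_two_right.2 hodd)
    have h3 := Nat.eq_one_of_dvd_coprimes h2 dvd_rfl h1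
    omega
  exact
    { gen := S.R.gen
      prime := Nat.prime_two
      prime' := hr
      ne := hr2
      pX := pX S
      pU := hU
      tcop := by
        rw [card_torus, hF]
        exact Nat.Coprime.pow_left 2 (Nat.coprime_two_right.2 hodd)
      notI := notP _ hIc
      notJ := notP _ hJc
      rkI := hI r hr hr2
      rkJ := hJ r hr hr2
      card_le := by
        rw [hIc, hJc, card_torus, hF, pow_two] }

end full

section main

open Cfsg.Lie Cfsg.Agent.ChevalleyStructure.TwF4.Rel Cfsg.Agent.Schreier.TwFFour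
open Cfsg.Agent.KFacts.TwF4.Inst

variable {K : Type*} [Field K] [Fintype K] {m : ℕ}

/-- **No perfect central extensions of `²F₄(q)` with kernel of odd prime order.** -/
theorem noPCov_odd (hm : 1 ≤ m) (hK : Fintype.card K = 2 ^ (2 * m + 1)) {r : ℕ} (hr : r.Prime) (hr2 : r ≠ 2) :
    NoPCov r ↥(twistedF4 K (2 ^ m)) := by
  haveI := Cfsg.Agent.ChevalleyStructure.TwF4.Twisted.charP_two hK
  obtain ⟨φ, hφ⟩ := Cfsg.Agent.ChevalleyStructure.TwF4.TwistedFix.exists_rln hK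
  have hU : IsPGroup 2 (cc (full hK hφ)).U := by
    have h1 := isPGroup_U0 (K := K) (m := m) hK
    rw [U0_eq hφ] at h1
    exact h1
  exact (zdatum (full hK hφ) (k := 2 * m + 1) (by omega) (by rw [Nat.card_eq_fintype_card, hK]) hU hr hr2).noPCov

end main

end Cfsg.Agent.H67.TwFFourOdd
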