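import Cfsg.Agent.H576.Ext.Defs
import Cfsg.Agent.H235.ExtOut
import Cfsg.Agent.H761.LieExt
import Cfsg.Agent.S0886
import Cfsg.Agent.S0887
import Cfsg.Agent.CharactersDeep.ExtGroup
import Cfsg.Agent.CharactersDeep.MaxInduced
import Cfsg.Agent.CharDeep.CliffordCorr
import Cfsg.Agent.CharDeep.IrrEquiv
import Cfsg.Agent.Characters.DefectZero

/-!
# S4832 (hub helper576): basic extension lemmas (helper67)
-/

set_option autoImplicit false

open scoped ComplexConjugate
open Cfsg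

namespace Cfsg.Agent.H67.ExtAbs

open Cfsg.Agent.Characters.Core

universe u v

section abs

variable {S : Type u} [Group S] [Finite S] {A : Type v} [Group A] [Finite A] (f : S →* A)
  (hf : Function.Injective f) (hn : f.range.Normal) {θ : S → ℂ} (hθ : IsIrrCharacter S θ)
  (hinv : ∀ (a : A) (s t : S), f t = a * f s * a⁻¹ → θ t = θ s)

omit [Finite S] [Finite A] in
theorem mr (s : S) : f s ∈ f.range := ⟨s, rfl⟩

/-- `θ` as a function on the range -/
noncomputable def push (hf : Function.Injective f) (θ : S → ℂ) : f.range → ℂ :=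
  θ ∘ (MonoidHom.ofInjective hf).symm

omit [Finite S] [Finite A] in
theorem push_apply (s : S) : push f hf θ ⟨f s, mr f s⟩ = θ s := by
  unfold push
  rw [Function.comp_apply]
  congr 1
  rw [MulEquiv.symm_apply_eq]
  rfl

omit [Finite S] [Finite A] in
theorem push_irr (hθ : IsIrrCharacter S θ) : IsIrrCharacter f.range (push f hf θ) :=
  isIrr_comp ((MonoidHom.ofInjective hf).symm : f.range →* S) (MonoidHom.ofInjective hf).symm.surjective hθ

omit [Finite S] [Finite A] in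
theorem push_one : push f hf θ 1 = θ 1 := by
  have := push_apply f hf (θ := θ) 1
  rw [← this]
  congr 1
  exact Subtype.ext (map_one f).symm

omit [Finite S] [Finite A] in
include hinv in
theorem push_inv (g : A) (n : f.range) : push f hf θ ⟨g * n * g⁻¹, hn.conj_mem (n : A) n.2 g⟩ = push f hf θ n := by
  obtain ⟨_, s, rfl⟩ := n
  obtain ⟨t, ht⟩ := hn.conj_mem (f s) (mr f s) g
  have h1 : (⟨g * f s * g⁻¹, hn.conj_mem (f s) (mr f s) g⟩ : f.range) = ⟨f t, mr f t⟩ := Subtype.ext ht.symm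
  calc push f hf θ ⟨g * f s * g⁻¹, _⟩ = push f hf θ ⟨f t, mr f t⟩ := by rw [h1]
    _ = θ t := push_apply f hf t
    _ = θ s := hinv g s t ht
    _ = push f hf θ ⟨f s, mr f s⟩ := (push_apply f hf s).symm

omit [Finite S] in
include hf hn hθ hinv in
/-- **the local criterion** -/
theorem ext_of_local (h : ∀ ℓ : ℕ, ℓ.Prime → (∃ (P : Subgroup A) (hP : f.range ≤ P) (η : P → ℂ), Nat.Coprime P.index ℓ ∧
      IsIrrCharacter P η ∧ ∀ s : S, η ⟨f s, hP (mr f s)⟩ = θ s) ∨ (Nat.Coprime (charDegree θ) ℓ ∧ commutator S = ⊤)) :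
    ∃ χ : A → ℂ, IsIrrCharacter A χ ∧ ∀ s, χ (f s) = θ s := by
  classical
  obtain ⟨χ, hχ, hres⟩ := CharactersDeep.ExtGroup.extends_of_local f.range (push f hf θ) (push_irr f hf hθ)
    (push_inv f hf hn hinv) (charDegree θ) (by rw [push_one, H669.Basic.charDegree_eq hθ]) (by
      intro ℓ hℓ
      rcases h ℓ hℓ with ⟨P, hP, η, h1, h2, h3⟩ | ⟨h1, h2⟩
      · refine Or.inl ⟨P, hP, η, h1, h2, ?_⟩
        rintro ⟨_, s, rfl⟩
        exact (h3 s).trans (push_apply f hf s).symm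
      · refine Or.inr ⟨h1, 1, isCharacter_one, rfl, ?_⟩
        intro n
        obtain ⟨m, ρ, hρ, hρθ⟩ := push_irr f hf hθ
        rw [CharDeep.IrrEquiv.detChar_apply ρ hρ hρθ (isIrr_isCharacter (push_irr f hf hθ)),
          ← CharDeep.IrrEquiv.detHom_apply]
        have h4 : ((CharDeep.IrrEquiv.detHom ρ).comp (MonoidHom.ofInjective hf : S →* f.range)).ker = ⊤ := by
          rw [eq_top_iff, ← h2]
          exact Abelianization.commutator_subset_ker _
        obtain ⟨s, rfl⟩ := (MonoidHom.ofInjective hf).surjective n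
        have h5 : s ∈ ((CharDeep.IrrEquiv.detHom ρ).comp (MonoidHom.ofInjective hf : S →* f.range)).ker := by
          rw [h4]; exact Subgroup.mem_top s
        rw [MonoidHom.mem_ker, MonoidHom.comp_apply] at h5
        have h6 : (CharDeep.IrrEquiv.detHom ρ) ((MonoidHom.ofInjective hf) s) = 1 := h5
        rw [h6]
        rfl)
  exact ⟨χ, hχ, fun s => (hres ⟨f s, mr f s⟩).trans (push_apply f hf s)⟩

omit [Finite S] in
include hf hn hθ hinv in
/-- **cyclic quotient** -/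
theorem ext_of_cyc (γ : A) (h : ∀ a : A, ∃ (k : ℤ) (s : S), a = f s * γ ^ k) :
    ∃ χ : A → ℂ, IsIrrCharacter A χ ∧ ∀ s, χ (f s) = θ s := by
  have hcyc : IsCyclic (A ⧸ f.range) := by
    refine ⟨⟨QuotientGroup.mk' f.range γ, fun x => ?_⟩⟩
    obtain ⟨a, rfl⟩ := QuotientGroup.mk'_surjective f.range x
    obtain ⟨k, s, rfl⟩ := h a
    refine Subgroup.mem_zpowers_iff.2 ⟨k, ?_⟩
    rw [map_mul, map_zpow]
    have h1 : QuotientGroup.mk' f.range (f s) = 1 := (QuotientGroup.eq_one_iff _).2 (mr f s)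
    rw [h1, one_mul]
  obtain ⟨χ, hχ, hres⟩ := S0886.result f.range hcyc (push f hf θ) (push_irr f hf hθ) (push_inv f hf hn hinv)
  exact ⟨χ, hχ, fun s => (hres ⟨f s, mr f s⟩).trans (push_apply f hf s)⟩

include hf hn hθ hinv in
/-- **the multiplicity lemma** -/
theorem ext_of_mult {ℓ : ℕ} (hℓ : ℓ.Prime) (hpow : ∃ k, f.range.index = ℓ ^ k) {Λ : A → ℂ} (hΛ : IsCharacter A Λ) {m : ℕ}
    (hm : ∀ [Fintype S], classInner (fun s => Λ (f s)) θ = m) (h : ¬ ℓ ∣ m) :
    ∃ χ : A → ℂ, IsIrrCharacter A χ ∧ ∀ s, χ (f s) = θ s := by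
  classical
  have := Fintype.ofFinite S
  have := Fintype.ofFinite A
  have := Fintype.ofFinite f.range
  have := finite_irr (G := A)
  have := Fintype.ofFinite (IrrCharacter A)
  obtain ⟨k, hk⟩ := hpow
  have hinner : ∀ φ : A → ℂ, classInner (fun s => φ (f s)) θ = classInner (fun n : f.range => φ n) (push f hf θ) := by
    intro φ
    have h1 := Cfsg.Agent.Characters.Clifford.classInner_comp_mulEquiv (MonoidHom.ofInjective hf : S ≃* f.range)
      (fun n : f.range => φ n) (push f hf θ)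
    rw [← h1]
    congr 1
    funext s
    exact (push_apply f hf s).symm
  obtain ⟨c, hc, -⟩ := CharDeep.CliffordCorr.exists_nat_coeffs hΛ
  choose e he using fun η : IrrCharacter A => classInner_isNat
    (isCharacter_comp f (isIrr_isCharacter η.2)) (isIrr_isCharacter hθ)
  have h1 : (m : ℂ) = ((∑ η : IrrCharacter A, c η * e η : ℕ) : ℂ) := by
    rw [← hm, hc]
    push_cast
    have h2 : (fun s => (∑ η : IrrCharacter A, (c η : ℂ) • (η : A → ℂ)) (f s)) =
        ∑ η : IrrCharacter A, (c η : ℂ) • ((η : A → ℂ) ∘ f) := by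
      funext s
      simp [Finset.sum_apply]
    rw [h2, classInner_sum_left]
    refine Finset.sum_congr rfl fun η _ => ?_
    rw [classInner_smul_left, he]
  have h2 : m = ∑ η : IrrCharacter A, c η * e η := by exact_mod_cast h1
  have h3 : ∃ η : IrrCharacter A, ¬ ℓ ∣ e η := by
    by_contra hcon
    push Not at hcon
    exact h (h2 ▸ Finset.dvd_sum fun η _ => (hcon η).mul_left _)
  obtain ⟨η, hη⟩ := h3
  have h0 : e η ≠ 0 := fun h0 => hη (h0 ▸ dvd_zero _)
  have h4 : classInner (fun n : f.range => (η : A → ℂ) n) (push f hf θ) = e η := by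
    rw [← hinner]; exact he η
  have h5 : classInner (fun n : f.range => (η : A → ℂ) n) (push f hf θ) ≠ 0 := by
    rw [h4]; exact_mod_cast h0
  have h6 := CharDeep.CliffordCorr.restrict_eq_smul_of_invariant f.range η.2 (push_irr f hf hθ) (by
    intro g
    funext n
    exact push_inv f hf hn hinv g n) h5
  obtain ⟨h7, h8⟩ := S0887.result f.range (η : A → ℂ) η.2 (push f hf θ) (push_irr f hf hθ) h5
    (charDegree (η : A → ℂ)) (charDegree θ) (H669.Basic.charDegree_eq η.2) (by rw [push_one, H669.Basic.charDegree_eq hθ])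
  have h9 : charDegree (η : A → ℂ) = e η * charDegree θ := by
    have h10 := congrFun h6 1
    rw [Pi.smul_apply, push_one, h4, smul_eq_mul, H669.Basic.charDegree_eq hθ] at h10
    have h11 : (η : A → ℂ) ((1 : f.range) : A) = charDegree (η : A → ℂ) := H669.Basic.charDegree_eq η.2
    rw [h11] at h10
    exact_mod_cast h10
  rw [h9, Nat.mul_div_cancel _ (H669.Basic.charDegree_pos hθ), hk] at h8
  obtain ⟨j, -, hj⟩ := (Nat.dvd_prime_pow hℓ).1 h8
  have h12 : e η = 1 := by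
    rcases Nat.eq_zero_or_pos j with hj0 | hj0
    · rw [hj, hj0, pow_zero]
    · exact absurd (hj ▸ dvd_pow_self ℓ hj0.ne') hη
  refine ⟨η, η.2, fun s => ?_⟩
  have h13 := congrFun h6 ⟨f s, mr f s⟩
  rw [Pi.smul_apply, h4, h12, Nat.cast_one, one_smul, push_apply] at h13
  exact h13

omit [Finite S] [Finite A] in
include hf in
/-- conjugation by `x⁻¹` on `S` -/
theorem exists_conj_equiv (hn : f.range.Normal) (x : A) : ∃ σ : S ≃ S, ∀ s, f (σ s) = x⁻¹ * f s * x := by
  refine ⟨(((MonoidHom.ofInjective hf).trans (MulAut.conjNormal x⁻¹ : MulAut f.range)).trans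
    (MonoidHom.ofInjective hf).symm).toEquiv, fun s => ?_⟩
  have h1 : ∀ n : f.range, f ((MonoidHom.ofInjective hf).symm n) = n := by
    intro n
    obtain ⟨t, rfl⟩ := (MonoidHom.ofInjective hf).surjective n
    rw [MulEquiv.symm_apply_apply]
    rfl
  show f ((MonoidHom.ofInjective hf).symm ((MulAut.conjNormal x⁻¹ : MulAut f.range) (MonoidHom.ofInjective hf s))) = _
  rw [h1, MulAut.conjNormal_apply, inv_inv]
  rfl

omit [Finite S] in
/-- a character of defect zero vanishes on the `ℓ`-singular elements -/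
theorem defectZero_vanish [Finite S] (hθ : IsIrrCharacter S θ) {ℓ : ℕ} (hℓ : ℓ.Prime)
    (hd : ¬ ℓ ∣ Nat.card S / charDegree θ) : ∃ m, charDegree θ = ℓ ^ ((Nat.card S).factorization ℓ) * m ∧ ¬ ℓ ∣ m ∧
      ∀ s : S, ℓ ∣ orderOf s → θ s = 0 := by
  classical
  have := Fintype.ofFinite S
  obtain ⟨q, hq⟩ := H669.Basic.charDegree_dvd_card hθ
  have h0 := H669.Basic.charDegree_pos hθ
  rw [hq, Nat.mul_div_cancel_left _ h0] at hd
  have hS0 : Nat.card S ≠ 0 := Nat.card_pos.ne'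
  have h1 : ℓ ^ ((Nat.card S).factorization ℓ) ∣ charDegree θ := by
    have h2 := Nat.ordProj_dvd (Nat.card S) ℓ
    nth_rewrite 2 [hq] at h2
    exact (Nat.Coprime.pow_left _ ((Nat.Prime.coprime_iff_not_dvd hℓ).2 hd)).dvd_of_dvd_mul_right h2
  have h2 : ¬ ℓ ^ ((Nat.card S).factorization ℓ + 1) ∣ Nat.card S := Nat.pow_succ_factorization_not_dvd hS0 hℓ
  obtain ⟨m, hm⟩ := h1
  refine ⟨m, hm, ?_, ?_⟩
  · rintro ⟨m', rfl⟩
    apply h2
    rw [pow_succ]
    refine Dvd.dvd.trans ?_ (H669.Basic.charDegree_dvd_card hθ)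
    rw [hm, ← mul_assoc]
    exact Dvd.intro _ rfl
  · intro s hs
    obtain ⟨n, ρ, hρ, rfl⟩ := hθ
    have h3 : Module.finrank ℂ (Fin n → ℂ) = charDegree ρ.character := by
      have h4 := H669.Basic.charDegree_eq (⟨n, ρ, hρ, rfl⟩ : IsIrrCharacter S ρ.character)
      rw [Representation.char_one] at h4
      exact_mod_cast h4
    have h5 := Characters.DefectZero.character_inv_eq_zero ρ hρ ℓ _ hℓ (Nat.ordProj_dvd (Nat.card S) ℓ) h2
      (by rw [h3, hm]; exact Dvd.intro _ rfl) s⁻¹ (by rw [orderOf_inv]; exact hs)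
    rwa [inv_inv] at h5

include hf hn hθ hinv in
/-- **defect zero** -/
theorem ext_of_defectZero {ℓ : ℕ} (hℓ : ℓ.Prime) (hpow : ∃ k, f.range.index = ℓ ^ k)
    (hd : ¬ ℓ ∣ Nat.card S / charDegree θ) : ∃ χ : A → ℂ, IsIrrCharacter A χ ∧ ∀ s, χ (f s) = θ s := by
  classical
  have := Fintype.ofFinite A
  have hfl : Fact ℓ.Prime := ⟨hℓ⟩
  obtain ⟨m, hm, hm', hv⟩ := defectZero_vanish hθ hℓ hd
  let Q : Sylow ℓ A := default
  refine ext_of_mult f hf hn hθ hinv hℓ hpow (CharDeep.CliffordCorr.isCharacter_indFun (Q : Subgroup A) isCharacter_one)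
    (m := m) ?_ hm'
  intro _
  obtain ⟨k, hk⟩ := hpow
  have hQ1 : extendByZero (Q : Subgroup A) 1 1 = 1 := by
    rw [extendByZero_of_mem _ _ (one_mem (Q : Subgroup A))]; rfl
  -- the inner sum
  have h1 : ∀ x : A, ∑ s : S, extendByZero (Q : Subgroup A) 1 (x⁻¹ * f s * x) * conj (θ s) = charDegree θ := by
    intro x
    obtain ⟨σ, hσ⟩ := exists_conj_equiv f hf hn x
    have h2 : ∑ s : S, extendByZero (Q : Subgroup A) 1 (x⁻¹ * f s * x) * conj (θ s) =
        ∑ s : S, extendByZero (Q : Subgroup A) 1 (f s) * conj (θ s) := by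
      rw [← Equiv.sum_comp σ (fun s => extendByZero (Q : Subgroup A) 1 (f s) * conj (θ s))]
      refine Finset.sum_congr rfl fun s _ => ?_
      rw [hσ, hinv x⁻¹ s (σ s) (by rw [hσ, inv_inv])]
    rw [h2, Finset.sum_eq_single (1 : S)]
    · rw [map_one, hQ1, one_mul, H669.Basic.charDegree_eq hθ, Complex.conj_natCast]
    · intro s _ hs
      by_cases hsQ : f s ∈ (Q : Subgroup A)
      · have h3 : θ s = 0 := by
          apply hv
          obtain ⟨j, hj⟩ := Q.isPGroup' ⟨f s, hsQ⟩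
          have h4 : f s ^ ℓ ^ j = 1 := congrArg Subtype.val hj
          have h5 : s ^ ℓ ^ j = 1 := hf (by rw [map_pow, h4, map_one])
          have h6 : orderOf s ∣ ℓ ^ j := orderOf_dvd_of_pow_eq_one h5
          obtain ⟨i, -, hi⟩ := (Nat.dvd_prime_pow hℓ).1 h6
          rw [hi]
          refine dvd_pow_self ℓ fun hi0 => hs ?_
          rw [← orderOf_eq_one_iff, hi, hi0, pow_zero]
        rw [h3, map_zero, mul_zero]
      · rw [extendByZero_of_notMem _ _ hsQ, zero_mul]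
    · intro h; exact absurd (Finset.mem_univ _) h
  have h2 : classInner (fun s => indFun (Q : Subgroup A) 1 (f s)) θ =
      (Nat.card S : ℂ)⁻¹ * ((Nat.card (Q : Subgroup A) : ℂ)⁻¹ * (Nat.card A * charDegree θ)) := by
    rw [classInner_def]
    congr 1
    have h3 : ∀ s : S, indFun (Q : Subgroup A) 1 (f s) * conj (θ s) = (Nat.card (Q : Subgroup A) : ℂ)⁻¹ *
        ∑ x : A, extendByZero (Q : Subgroup A) 1 (x⁻¹ * f s * x) * conj (θ s) := by
      intro s
      rw [indFun_apply, mul_assoc, Finset.sum_mul]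
    simp_rw [h3]
    rw [← Finset.mul_sum, Finset.sum_comm]
    congr 1
    simp_rw [h1]
    rw [Finset.sum_const, Finset.card_univ, nsmul_eq_mul, Nat.card_eq_fintype_card]
  have hcardA : Nat.card A = Nat.card S * ℓ ^ k := by
    rw [← f.range.card_mul_index, hk, Nat.card_congr (MonoidHom.ofInjective hf).toEquiv.symm]
  have hcardQ : Nat.card (Q : Subgroup A) = ℓ ^ ((Nat.card S).factorization ℓ) * ℓ ^ k := by
    rw [Q.card_eq_multiplicity, hcardA, Nat.factorization_mul Nat.card_pos.ne' (pow_pos hℓ.pos k).ne', Finsupp.add_apply,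
      hℓ.factorization_pow, Finsupp.single_eq_same, pow_add]
  have hS0 : (Nat.card S : ℂ) ≠ 0 := card_ne_zero_complex
  have hl0 : (ℓ : ℂ) ≠ 0 := by exact_mod_cast hℓ.pos.ne'
  rw [h2, hcardQ, hcardA, hm]
  push_cast
  field_simp

end abs

end Cfsg.Agent.H67.ExtAbs

namespace Cfsg.Agent.H576.Ext

open Cfsg.Agent.Characters.Core Cfsg.Agent.H67.ExtAbs

universe u v w

variable {S : Type u} [Group S] [Finite S] {θ : S → ℂ}

/-- `s ↦ conj s` as a homomorphism to `A` -/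
def cj {A : Subgroup (MulAut S)} (hI : (MulAut.conj (G := S)).range ≤ A) : S →* A :=
  (MulAut.conj (G := S)).codRestrict A fun s => hI ⟨s, rfl⟩

omit [Finite S] in
theorem cj_apply {A : Subgroup (MulAut S)} (hI : (MulAut.conj (G := S)).range ≤ A) (s : S) :
    cj hI s = ⟨MulAut.conj s, hI ⟨s, rfl⟩⟩ := rfl

omit [Finite S] in
theorem conj_inj (hZ : Subgroup.center S = ⊥) : Function.Injective (MulAut.conj (G := S)) := by
  rw [← MonoidHom.ker_eq_bot_iff, ← le_bot_iff, ← hZ]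
  intro s hs
  rw [MonoidHom.mem_ker] at hs
  rw [Subgroup.mem_center_iff]
  intro t
  have h1 := DFunLike.congr_fun hs t
  rw [MulAut.conj_apply, MulAut.one_apply, mul_inv_eq_iff_eq_mul] at h1
  exact h1.symm

omit [Finite S] in
theorem cj_inj (hZ : Subgroup.center S = ⊥) {A : Subgroup (MulAut S)} (hI : (MulAut.conj (G := S)).range ≤ A) :
    Function.Injective (cj hI) := fun _ _ h => conj_inj hZ (congrArg Subtype.val h)

omit [Finite S] in
theorem cj_range {A : Subgroup (MulAut S)} (hI : (MulAut.conj (G := S)).range ≤ A) :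
    (cj hI).range = (MulAut.conj (G := S)).range.subgroupOf A := by
  ext x
  rw [Subgroup.mem_subgroupOf]
  constructor
  · rintro ⟨s, rfl⟩; exact ⟨s, rfl⟩
  · rintro ⟨s, hs⟩; exact ⟨s, Subtype.ext hs⟩

omit [Finite S] in
theorem conj_conj (α : MulAut S) (s : S) : α * MulAut.conj s * α⁻¹ = MulAut.conj (α s) := by
  ext x
  simp [MulAut.conj_apply]

omit [Finite S] in
theorem cj_normal {A : Subgroup (MulAut S)} (hI : (MulAut.conj (G := S)).range ≤ A) : (cj hI).range.Normal := by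
  rw [cj_range]
  refine ⟨fun n hn a => ?_⟩
  rw [Subgroup.mem_subgroupOf] at hn ⊢
  obtain ⟨s, hs⟩ := hn
  refine ⟨(a : MulAut S) s, ?_⟩
  rw [← conj_conj, hs]
  rfl

omit [Finite S] in
theorem cj_inv (hZ : Subgroup.center S = ⊥) {A : Subgroup (MulAut S)} (hI : (MulAut.conj (G := S)).range ≤ A)
    (hA : A ≤ stab θ) (a : A) (s t : S) (h : cj hI t = a * cj hI s * a⁻¹) : θ t = θ s := by
  have h1 : MulAut.conj t = (a : MulAut S) * MulAut.conj s * (a : MulAut S)⁻¹ := congrArg Subtype.val h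
  rw [conj_conj] at h1
  rw [conj_inj hZ h1]
  exact hA a.2 s

omit [Finite S] in
theorem range_le_stab (hθ : IsClassFunction S θ) : (MulAut.conj (G := S)).range ≤ stab θ := by
  rintro _ ⟨s, rfl⟩ t
  exact hθ t s

omit [Finite S] in
theorem extTo_iff {A : Subgroup (MulAut S)} (hI : (MulAut.conj (G := S)).range ≤ A) :
    ExtTo θ A ↔ ∃ χ : A → ℂ, IsIrrCharacter A χ ∧ ∀ s, χ (cj hI s) = θ s :=
  ⟨fun ⟨χ, h1, h2⟩ => ⟨χ, h1, fun s => h2 s _⟩, fun ⟨χ, h1, h2⟩ => ⟨χ, h1, fun s _ => h2 s⟩⟩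

/-! ### basic properties -/

omit [Finite S] in
theorem stab_comp {S' : Type v} [Group S'] (e : S ≃* S') (θ : S' → ℂ) (α : MulAut S) :
    α ∈ stab (θ ∘ e) ↔ MulAut.congr e α ∈ stab θ := by
  constructor
  · intro h s
    have := h (e.symm s)
    simpa using this
  · intro h s
    have := h (e s)
    simpa using this

omit [Finite S] in
theorem charDegree_comp {S' : Type v} [Group S'] (e : S ≃* S') (θ : S' → ℂ) : charDegree (θ ∘ e) = charDegree θ := by
  unfold charDegree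
  rw [Function.comp_apply, map_one]

omit [Finite S] in
theorem HasExt.of_equiv' {S' : Type v} [Group S'] (e : S ≃* S') {p : ℕ} (h : HasExt p S') :
    HasExt p S := by
  obtain ⟨θ, hθ, hd, ψ, hψ, he⟩ := h
  have key : ∀ α : stab (θ ∘ e), MulAut.congr e α.1 ∈ stab θ := fun α => (stab_comp e θ α.1).1 α.2
  let F : stab (θ ∘ e) →* stab θ :=
    ((MulAut.congr e).toMonoidHom.comp (stab (θ ∘ e)).subtype).codRestrict (stab θ) key
  have hF : Function.Surjective F := by
    rintro ⟨β, hβ⟩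
    refine ⟨⟨(MulAut.congr e).symm β, ?_⟩, Subtype.ext ?_⟩
    · rw [stab_comp, MulEquiv.apply_symm_apply]; exact hβ
    · exact (MulAut.congr e).apply_symm_apply β
  refine ⟨θ ∘ e, isIrr_comp (e : S →* S') e.surjective hθ, ?_, ψ ∘ F, isIrr_comp F hF hψ, ?_⟩
  · rw [charDegree_comp]; exact hd
  · intro s hs
    have h1 : F ⟨MulAut.conj s, hs⟩ = ⟨MulAut.conj (e s), by
        have := key ⟨MulAut.conj s, hs⟩
        have h2 : MulAut.congr e (MulAut.conj s) = MulAut.conj (e s) := by ext x; simp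
        rwa [h2] at this⟩ := by
      apply Subtype.ext
      show MulAut.congr e (MulAut.conj s) = MulAut.conj (e s)
      ext x; simp
    rw [Function.comp_apply, h1]
    exact he _ _

theorem HasExt.of_equiv {S : Type u} {S' : Type v} [Group S] [Group S'] (e : S ≃* S') {p : ℕ} (h : HasExt p S') :
    HasExt p S := HasExt.of_equiv' e h

theorem ExtTo.mono (hθ : IsIrrCharacter S θ) {A B : Subgroup (MulAut S)} (hI : (MulAut.conj (G := S)).range ≤ A)
    (hAB : A ≤ B) (h : ExtTo θ B) : ExtTo θ A := by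
  obtain ⟨χ, h1, h2⟩ := (extTo_iff (hI.trans hAB)).1 h
  refine (extTo_iff hI).2 ⟨χ ∘ Subgroup.inclusion hAB, ?_, fun s => h2 s⟩
  refine CharactersDeep.MaxInduced.isIrr_of_comp (cj hI) (isCharacter_comp _ (isIrr_isCharacter h1)) ?_
  have h3 : (χ ∘ Subgroup.inclusion hAB) ∘ cj hI = θ := funext fun s => h2 s
  rw [h3]
  exact hθ

theorem extTo_of_sylow (hZ : Subgroup.center S = ⊥) (hθ : IsIrrCharacter S θ) {A : Subgroup (MulAut S)}
    (hI : (MulAut.conj (G := S)).range ≤ A) (hA : A ≤ stab θ)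
    (h : ∀ ℓ : ℕ, ℓ.Prime → ∃ P : Subgroup (MulAut S), (MulAut.conj (G := S)).range ≤ P ∧ P ≤ A ∧
      ¬ ℓ ∣ P.relIndex A ∧ ExtTo θ P) : ExtTo θ A := by
  refine (extTo_iff hI).2 (ext_of_local (cj hI) (cj_inj hZ hI) (cj_normal hI) hθ (cj_inv hZ hI hA) fun ℓ hℓ => Or.inl ?_)
  obtain ⟨P, h1, h2, h3, h4⟩ := h ℓ hℓ
  obtain ⟨χ, h5, h6⟩ := (extTo_iff h1).1 h4
  refine ⟨P.subgroupOf A, ?_, χ ∘ (Subgroup.subgroupOfEquivOfLe h2), ?_, ?_, ?_⟩
  · rw [cj_range]; exact fun x hx => h1 hx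
  · exact ((Nat.Prime.coprime_iff_not_dvd hℓ).2 h3).symm
  · exact isIrr_comp (Subgroup.subgroupOfEquivOfLe h2 : P.subgroupOf A →* P) (Subgroup.subgroupOfEquivOfLe h2).surjective h5
  · intro s
    exact h6 s

theorem extTo_of_cyc (hZ : Subgroup.center S = ⊥) (hθ : IsIrrCharacter S θ) {A : Subgroup (MulAut S)}
    (hI : (MulAut.conj (G := S)).range ≤ A) (hA : A ≤ stab θ)
    (h : ∃ γ ∈ A, ∀ α ∈ A, ∃ (k : ℤ) (s : S), α = MulAut.conj s * γ ^ k) : ExtTo θ A := by
  obtain ⟨γ, hγ, h⟩ := h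
  refine (extTo_iff hI).2 (ext_of_cyc (cj hI) (cj_inj hZ hI) (cj_normal hI) hθ (cj_inv hZ hI hA) ⟨γ, hγ⟩ ?_)
  rintro ⟨α, hα⟩
  obtain ⟨k, s, rfl⟩ := h α hα
  exact ⟨k, s, Subtype.ext rfl⟩

theorem inn_normal (S : Type*) [Group S] : (MulAut.conj (G := S)).range.Normal :=
  ⟨fun n hn a => by
    obtain ⟨s, rfl⟩ := hn
    exact ⟨a s, (conj_conj a s).symm⟩⟩

omit [Finite S] in
/-- the Sylow subgroups of `A`, as subgroups of `Aut S` -/
theorem exists_sylow [Finite S] (A : Subgroup (MulAut S)) {ℓ : ℕ} (hℓ : ℓ.Prime) :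
    ∃ Q : Subgroup (MulAut S), Q ≤ A ∧ IsPGroup ℓ Q ∧ ¬ ℓ ∣ ((MulAut.conj (G := S)).range ⊔ Q).relIndex A ∧
      ∃ k, (MulAut.conj (G := S)).range.relIndex ((MulAut.conj (G := S)).range ⊔ Q) = ℓ ^ k := by
  have hfl : Fact ℓ.Prime := ⟨hℓ⟩
  have hfin : Finite (MulAut S) := inferInstance
  let Q : Sylow ℓ A := default
  refine ⟨(Q : Subgroup A).map A.subtype, ?_, Q.isPGroup'.map _, ?_, ?_⟩
  · exact Subgroup.map_subtype_le _
  · intro hd
    have h1 : ((Q : Subgroup A).map A.subtype).relIndex A = (Q : Subgroup A).index := by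
      rw [Subgroup.relIndex, Subgroup.subgroupOf, Subgroup.comap_map_eq_self_of_injective A.subtype_injective]
    have h2 : ¬ ℓ ∣ (Q : Subgroup A).index := Q.not_dvd_index
    apply h2
    rw [← h1]
    exact hd.trans (Subgroup.relIndex_dvd_of_le_left A le_sup_right)
  · have h3 : IsPGroup ℓ ((Q : Subgroup A).map A.subtype) := Q.isPGroup'.map _
    have := inn_normal S
    rw [Subgroup.relIndex_sup_left]
    obtain ⟨j, hj⟩ := h3.exists_card_eq
    obtain ⟨k, -, hk⟩ := (Nat.dvd_prime_pow hℓ).1 (hj ▸ Subgroup.relIndex_dvd_card (MulAut.conj (G := S)).range ((Q : Subgroup A).map A.subtype))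
    exact ⟨k, hk⟩

theorem extTo_of_sylCyc (hZ : Subgroup.center S = ⊥) (hθ : IsIrrCharacter S θ) {A : Subgroup (MulAut S)}
    (hI : (MulAut.conj (G := S)).range ≤ A) (hA : A ≤ stab θ) (h : SylCycIn A) : ExtTo θ A := by
  refine extTo_of_sylow hZ hθ hI hA fun ℓ hℓ => ?_
  obtain ⟨Q, h1, h2, h3, -⟩ := exists_sylow A hℓ
  obtain ⟨γ, hγ, hg⟩ := h ℓ hℓ Q h1 h2
  refine ⟨_, le_sup_left, sup_le hI h1, h3, extTo_of_cyc hZ hθ le_sup_left ((sup_le hI h1).trans hA) ⟨γ, le_sup_right (a := (MulAut.conj (G := S)).range) hγ, ?_⟩⟩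
  intro α hα
  have := inn_normal S
  rw [← SetLike.mem_coe, Subgroup.normal_mul] at hα
  obtain ⟨_, ⟨s, rfl⟩, β, hβ, rfl⟩ := hα
  obtain ⟨k, t, rfl⟩ := hg β hβ
  refine ⟨k, s * t, ?_⟩
  show MulAut.conj s * (MulAut.conj t * γ ^ k) = _
  rw [map_mul, mul_assoc]

omit [Finite S] in
theorem center_eq_bot [hS : IsSimpleGroup S] (hna : ¬ IsMulCommutative S) : Subgroup.center S = ⊥ := by
  rcases hS.eq_bot_or_eq_top_of_normal (Subgroup.center S) inferInstance with h | h
  · exact h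
  · exfalso
    apply hna
    refine ⟨⟨fun x y => ?_⟩⟩
    have h1 : y ∈ Subgroup.center S := h ▸ Subgroup.mem_top y
    exact Subgroup.mem_center_iff.1 h1 x

/-- if the Sylow subgroups of `Out S` are cyclic every character extends to its stabiliser -/
theorem hasExt_of_sylCyc [IsSimpleGroup S] (hna : ¬ IsMulCommutative S) (h : SylCyc S) {p : ℕ}
    (him : Cfsg.Agent.H671.H5.IM p S) : HasExt p S := by
  obtain ⟨χ, hχ⟩ := him
  exact ⟨χ, χ.2, hχ, extTo_of_sylCyc (center_eq_bot hna) χ.2 (range_le_stab (isIrr_isClassFunction χ.2)) le_rfl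
    (SylCycIn.mono le_top h)⟩

/-- Principle G: `ℓ ∤ θ 1`, `S` perfect: `θ` extends to every `P ≤ stab θ` with `|P : Inn|` a power of `ℓ` -/
theorem extTo_of_coprime (hZ : Subgroup.center S = ⊥) (hperf : commutator S = ⊤) (hθ : IsIrrCharacter S θ)
    {P : Subgroup (MulAut S)} (hI : (MulAut.conj (G := S)).range ≤ P) (hP : P ≤ stab θ) {ℓ : ℕ} (hℓ : ℓ.Prime)
    (hpow : ∃ k : ℕ, (MulAut.conj (G := S)).range.relIndex P = ℓ ^ k) (hd : ¬ ℓ ∣ charDegree θ) :
    ExtTo θ P := by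
  refine (extTo_iff hI).2 (ext_of_local (cj hI) (cj_inj hZ hI) (cj_normal hI) hθ (cj_inv hZ hI hP) fun r hr => ?_)
  by_cases hrl : r = ℓ
  · subst hrl
    exact Or.inr ⟨((Nat.Prime.coprime_iff_not_dvd hr).2 hd).symm, hperf⟩
  · obtain ⟨k, hk⟩ := hpow
    refine Or.inl ⟨(cj hI).range, le_rfl, push (cj hI) (cj_inj hZ hI) θ, ?_, push_irr _ _ hθ, fun s => push_apply _ _ s⟩
    rw [cj_range]
    show Nat.Coprime ((MulAut.conj (G := S)).range.relIndex P) r
    rw [hk]
    exact Nat.Coprime.pow_left k ((Nat.coprime_primes hℓ hr).2 (Ne.symm hrl))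

omit [Finite S] in
theorem index_range {P : Subgroup (MulAut S)} (hI : (MulAut.conj (G := S)).range ≤ P) :
    (cj hI).range.index = (MulAut.conj (G := S)).range.relIndex P := by
  rw [cj_range]; rfl

/-- the multiplicity lemma -/
theorem extTo_of_mult (hZ : Subgroup.center S = ⊥) (hθ : IsIrrCharacter S θ) {P : Subgroup (MulAut S)}
    (hI : (MulAut.conj (G := S)).range ≤ P) (hP : P ≤ stab θ) {ℓ : ℕ} (hℓ : ℓ.Prime)
    (hpow : ∃ k : ℕ, (MulAut.conj (G := S)).range.relIndex P = ℓ ^ k) {Λ : P → ℂ} (hΛ : IsCharacter P Λ) {m : ℕ}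
    (hm : ∀ [Fintype S], classInner (fun s : S => Λ ⟨MulAut.conj s, hI ⟨s, rfl⟩⟩) θ = m) (h : ¬ ℓ ∣ m) :
    ExtTo θ P :=
  (extTo_iff hI).2 (ext_of_mult (cj hI) (cj_inj hZ hI) (cj_normal hI) hθ (cj_inv hZ hI hP) hℓ
    (by rw [index_range]; exact hpow) hΛ hm h)

/-- defect zero -/
theorem extTo_of_defectZero (hZ : Subgroup.center S = ⊥) (hθ : IsIrrCharacter S θ) {P : Subgroup (MulAut S)}
    (hI : (MulAut.conj (G := S)).range ≤ P) (hP : P ≤ stab θ) {ℓ : ℕ} (hℓ : ℓ.Prime)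
    (hpow : ∃ k : ℕ, (MulAut.conj (G := S)).range.relIndex P = ℓ ^ k)
    (hd : ¬ ℓ ∣ Nat.card S / charDegree θ) : ExtTo θ P :=
  (extTo_iff hI).2 (ext_of_defectZero (cj hI) (cj_inj hZ hI) (cj_normal hI) hθ (cj_inv hZ hI hP) hℓ
    (by rw [index_range]; exact hpow) hd)

/-- a character which is of defect zero or of degree prime to `ℓ` for all `ℓ` extends to `A` -/
theorem extTo_of_degree (hZ : Subgroup.center S = ⊥) (hperf : commutator S = ⊤) (hθ : IsIrrCharacter S θ)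
    {A : Subgroup (MulAut S)} (hI : (MulAut.conj (G := S)).range ≤ A) (hA : A ≤ stab θ)
    (h : ∀ ℓ : ℕ, ℓ.Prime → ℓ ∣ charDegree θ → ¬ ℓ ∣ Nat.card S / charDegree θ) : ExtTo θ A := by
  refine extTo_of_sylow hZ hθ hI hA fun ℓ hℓ => ?_
  obtain ⟨Q, h1, -, h3, h4⟩ := exists_sylow A hℓ
  refine ⟨_, le_sup_left, sup_le hI h1, h3, ?_⟩
  by_cases hd : ℓ ∣ charDegree θ
  · exact extTo_of_defectZero hZ hθ le_sup_left ((sup_le hI h1).trans hA) hℓ h4 (h ℓ hℓ hd)
  · exact extTo_of_coprime hZ hperf hθ le_sup_left ((sup_le hI h1).trans hA) hℓ h4 hd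

/-- a character which is of defect zero or of degree prime to `ℓ` for all `ℓ` extends to its stabiliser -/
theorem hasExt_of_degree [IsSimpleGroup S] (hna : ¬ IsMulCommutative S) (hθ : IsIrrCharacter S θ) {p : ℕ}
    (hp : p ∣ charDegree θ)
    (h : ∀ ℓ : ℕ, ℓ.Prime → ℓ ∣ charDegree θ → ¬ ℓ ∣ Nat.card S / charDegree θ) : HasExt p S :=
  ⟨θ, hθ, hp, extTo_of_degree (center_eq_bot hna) (H235.ExtOut.commutator_eq_top hna) hθ
    (range_le_stab (isIrr_isClassFunction hθ)) le_rfl h⟩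

omit [Finite S] in
/-- a character which extends to `Aut S` -/
theorem hasExt_of_extAut {χ : Cfsg.IrrCharacter S} (h : Cfsg.Agent.H671.H5.ExtAut χ) {p : ℕ}
    (hp : p ∣ charDegree (χ : S → ℂ)) : HasExt p S := by
  obtain ⟨ψ, hψ⟩ := h
  have hst : stab (χ : S → ℂ) = ⊤ := by
    rw [eq_top_iff]
    intro α _ s
    rw [← hψ, ← hψ, ← conj_conj]
    exact isIrr_isClassFunction ψ.2 _ _
  refine ⟨χ, χ.2, hp, ?_⟩
  rw [hst]
  exact ⟨(ψ : MulAut S → ℂ) ∘ (⊤ : Subgroup (MulAut S)).subtype, isIrr_comp (⊤ : Subgroup (MulAut S)).subtype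
    (fun x => ⟨⟨x, Subgroup.mem_top x⟩, rfl⟩) ψ.2, fun s _ => hψ s⟩

/-- defining characteristic: the Steinberg character -/
theorem hasExt_char {p : ℕ} [Fact p.Prime] [IsSimpleGroup S] (h : IsLieTypeChar p S) (hd : p ∣ Nat.card S) :
    HasExt p S := by
  have hp : p.Prime := Fact.out
  obtain ⟨θ, h1, h2⟩ := H761.LieExt.ext_of_hasSplit (H979.LieSplit.hasSplit_of_isLieTypeChar hp h)
  refine hasExt_of_extAut h2 ?_
  rw [h1]
  refine dvd_pow_self p ?_
  exact (hp.factorization_pos_of_dvd Nat.card_pos.ne' hd).ne'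

end Cfsg.Agent.H576.Ext
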